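import Mathlib.Topology.Constructible
import Mathlib.Topology.NoetherianSpace
import Mathlib.Topology.Sober
import Mathlib.Topology.LocallyClosed
import Mathlib.Topology.Spectral.Prespectral

/-!
# Constructible subsets of topological spaces, Noetherian induction
-/

set_option autoImplicit false
set_option linter.style.haveILetI false

universe u v

open Topology TopologicalSpace Set

namespace Groth.Agent.SpecLib

variable {X : Type u} [TopologicalSpace X]

/-- Constructible sets are retrocompact. -/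
theorem isRetrocompact_of_isConstructible {s : Set X} (hs : IsConstructible s) : IsRetrocompact s := by
  induction s, hs using BooleanSubalgebra.closure_sdiff_sup_induction with
  | isSublattice =>
    exact ⟨fun s hs t ht ↦ ⟨hs.1.union ht.1, hs.2.union ht.2⟩,
      fun s hs t ht ↦ ⟨hs.1.inter ht.1, hs.2.inter_isOpen ht.2 ht.1⟩⟩
  | bot_mem => exact ⟨isOpen_empty, .empty⟩
  | top_mem => exact ⟨isOpen_univ, .univ⟩
  | sdiff U hU V hV =>
    intro W hW hW'
    rw [sdiff_eq, inter_right_comm]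
    exact (hU.2 hW hW').inter_right hV.1.isClosed_compl
  | sup s _ t _ hs ht => exact hs.union ht

/-- A constructible set is a finite union of locally closed sets. -/
theorem exists_lc_of_isConstructible {s : Set X} (hs : IsConstructible s) :
    ∃ (n : ℕ) (Z : Fin n → Set X), (∀ i, IsLocallyClosed (Z i)) ∧ s = ⋃ i, Z i := by
  induction s, hs using BooleanSubalgebra.closure_sdiff_sup_induction with
  | isSublattice =>
    exact ⟨fun s hs t ht ↦ ⟨hs.1.union ht.1, hs.2.union ht.2⟩,
      fun s hs t ht ↦ ⟨hs.1.inter ht.1, hs.2.inter_isOpen ht.2 ht.1⟩⟩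
  | bot_mem => exact ⟨isOpen_empty, .empty⟩
  | top_mem => exact ⟨isOpen_univ, .univ⟩
  | sdiff U hU V hV =>
    exact ⟨1, fun _ => U \ V, fun _ => ⟨U, Vᶜ, hU.1, hV.1.isClosed_compl, rfl⟩, (iUnion_const _).symm⟩
  | sup s _ t _ hs ht =>
    obtain ⟨n, A, hA, rfl⟩ := hs
    obtain ⟨m, B, hB, rfl⟩ := ht
    refine ⟨n + m, Fin.append A B, fun i => ?_, ?_⟩
    · refine Fin.addCases (fun i => ?_) (fun i => ?_) i
      · rw [Fin.append_left]; exact hA i
      · rw [Fin.append_right]; exact hB i
    · ext x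
      simp only [sup_eq_union, mem_union, mem_iUnion]
      constructor
      · rintro (⟨i, hi⟩ | ⟨i, hi⟩)
        · exact ⟨Fin.castAdd m i, by rwa [Fin.append_left]⟩
        · exact ⟨Fin.natAdd n i, by rwa [Fin.append_right]⟩
      · rintro ⟨i, hi⟩
        revert hi
        refine Fin.addCases (fun i hi => ?_) (fun i hi => ?_) i
        · rw [Fin.append_left] at hi; exact .inl ⟨i, hi⟩
        · rw [Fin.append_right] at hi; exact .inr ⟨i, hi⟩

/-- Noetherian induction on closed subsets. -/
theorem closed_induction [NoetherianSpace X] {P : Set X → Prop}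
    (h : ∀ Y : Set X, IsClosed Y → (∀ Y' : Set X, IsClosed Y' → Y' ⊂ Y → P Y') → P Y)
    {Y : Set X} (hY : IsClosed Y) : P Y := by
  suffices ∀ C : Closeds X, P C from this ⟨Y, hY⟩
  intro C
  induction C using WellFoundedLT.induction with
  | _ C ih => exact h C C.2 fun Y' hY' hlt => ih ⟨Y', hY'⟩ hlt

/-- Noetherian induction with the reduction to irreducible closed subsets. -/
theorem irred_induction [NoetherianSpace X] {P : Set X → Prop} (h0 : P ∅)
    (hu : ∀ A B : Set X, IsClosed A → IsClosed B → P A → P B → P (A ∪ B))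
    (hi : ∀ Y : Set X, IsClosed Y → IsIrreducible Y → (∀ Y' : Set X, IsClosed Y' → Y' ⊂ Y → P Y') → P Y)
    {Y : Set X} (hY : IsClosed Y) : P Y := by
  refine closed_induction (fun Y hY ih => ?_) hY
  by_cases hirr : IsPreirreducible Y
  · rcases Y.eq_empty_or_nonempty with rfl | hne
    · exact h0
    · exact hi Y hY ⟨hne, hirr⟩ ih
  · rw [isPreirreducible_iff_isClosed_union_isClosed] at hirr
    push Not at hirr
    obtain ⟨A, B, hA, hB, hcov, hnA, hnB⟩ := hirr
    have hYe : Y = (Y ∩ A) ∪ (Y ∩ B) := by rw [← inter_union_distrib_left, inter_eq_left.2 hcov]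
    rw [hYe]
    exact hu _ _ (hY.inter hA) (hY.inter hB)
      (ih _ (hY.inter hA) (inter_subset_left.ssubset_of_ne fun e => hnA (e ▸ inter_subset_right)))
      (ih _ (hY.inter hB) (inter_subset_left.ssubset_of_ne fun e => hnB (e ▸ inter_subset_right)))

theorem isConstructible_of_isClosed [NoetherianSpace X] {C : Set X} (hC : IsClosed C) : IsConstructible C := by
  have := IsRetrocompact.isConstructible hC.isOpen_compl (fun U _ _ => NoetherianSpace.isCompact _)
  simpa using this.compl

theorem isConstructible_of_isOpen [NoetherianSpace X] {U : Set X} (hU : IsOpen U) : IsConstructible U :=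
  IsRetrocompact.isConstructible hU (fun _ _ _ => NoetherianSpace.isCompact _)

/-- An irreducible set meeting a finite union of locally closed sets densely. -/
theorem exists_open_of_dense_inter {Z : Set X} (hZ : IsIrreducible Z) {ι : Type*} [Finite ι]
    (L : ι → Set X) (hL : ∀ i, IsLocallyClosed (L i)) (hd : Z ⊆ closure ((⋃ i, L i) ∩ Z)) :
    ∃ U : Set X, IsOpen U ∧ (U ∩ Z).Nonempty ∧ U ∩ Z ⊆ ⋃ i, L i := by
  classical
  haveI := Fintype.ofFinite ι
  rw [iUnion_inter, closure_iUnion_of_finite] at hd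
  obtain ⟨t, ht, htZ⟩ := isIrreducible_iff_sUnion_isClosed.1 hZ
    (Finset.univ.image fun i => closure (L i ∩ Z))
    (by simp) (by
      intro z hz
      obtain ⟨i, hi⟩ := mem_iUnion.1 (hd hz)
      exact ⟨_, Finset.mem_image_of_mem _ (Finset.mem_univ i), hi⟩)
  obtain ⟨i, -, rfl⟩ := Finset.mem_image.1 ht
  obtain ⟨U, C, hU, hC, e⟩ := hL i
  have hne : (L i ∩ Z).Nonempty := by
    by_contra h
    rw [not_nonempty_iff_eq_empty] at h
    rw [h, closure_empty] at htZ
    exact hZ.1.ne_empty (subset_empty_iff.1 htZ)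
  have hZC : Z ⊆ C := htZ.trans (hC.closure_subset_iff.2 fun x hx => (e ▸ hx.1 : x ∈ U ∩ C).2)
  refine ⟨U, hU, ?_, fun x hx => mem_iUnion.2 ⟨i, e ▸ ⟨hx.1, hZC hx.2⟩⟩⟩
  obtain ⟨x, hx, hxZ⟩ := hne
  exact ⟨x, (e ▸ hx : x ∈ U ∩ C).1, hxZ⟩

/-- A constructible set with dense trace on an irreducible set contains an open piece of it. -/
theorem exists_open_of_isConstructible {E Z : Set X} (hE : IsConstructible E) (hZ : IsIrreducible Z)
    (hd : Z ⊆ closure (E ∩ Z)) : ∃ U : Set X, IsOpen U ∧ (U ∩ Z).Nonempty ∧ U ∩ Z ⊆ E := by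
  obtain ⟨n, L, hL, rfl⟩ := exists_lc_of_isConstructible hE
  exact exists_open_of_dense_inter hZ L hL hd

theorem subset_closure_of_open_inter {U E Z : Set X} (hZ : IsIrreducible Z) (hU : IsOpen U)
    (hne : (U ∩ Z).Nonempty) (hsub : U ∩ Z ⊆ E) : Z ⊆ closure (E ∩ Z) := by
  refine (subset_closure_inter_of_isPreirreducible_of_isOpen hZ.2 hU (inter_comm U Z ▸ hne)).trans (closure_mono ?_)
  exact fun x hx => ⟨hsub ⟨hx.2, hx.1⟩, hx.1⟩

/-- Neighbourhood criterion in a Noetherian space. -/
theorem mem_nhds_of_forall_irred [NoetherianSpace X] {E : Set X} {x : X}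
    (h : ∀ Y : Set X, IsClosed Y → IsIrreducible Y → x ∈ Y → ∃ U : Set X, IsOpen U ∧ (U ∩ Y).Nonempty ∧ U ∩ Y ⊆ E) :
    E ∈ nhds x := by
  suffices ∀ Y : Set X, IsClosed Y → ∃ U : Set X, IsOpen U ∧ x ∈ U ∧ U ∩ Y ⊆ E by
    obtain ⟨U, hU, hx, hsub⟩ := this univ isClosed_univ
    exact mem_nhds_iff.2 ⟨U, by simpa using hsub, hU, hx⟩
  intro Y hY
  refine irred_induction (P := fun Y => ∃ U : Set X, IsOpen U ∧ x ∈ U ∧ U ∩ Y ⊆ E) ⟨univ, isOpen_univ, trivial, by simp⟩
    ?_ ?_ hY
  · rintro A B - - ⟨U, hU, hxU, a⟩ ⟨V, hV, hxV, b⟩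
    exact ⟨U ∩ V, hU.inter hV, ⟨hxU, hxV⟩, fun z ⟨hz, hz'⟩ => hz'.elim (fun e => a ⟨hz.1, e⟩) (fun e => b ⟨hz.2, e⟩)⟩
  · intro Y hY hirr ih
    by_cases hx : x ∈ Y
    · obtain ⟨V, hV, hne, hsub⟩ := h Y hY hirr hx
      obtain ⟨U, hU, hxU, hsub'⟩ := ih (Y \ V) (hY.sdiff hV) (sdiff_subset.ssubset_of_ne fun e => by
        obtain ⟨z, hz, hz'⟩ := hne
        exact (e.symm ▸ hz' : z ∈ Y \ V).2 hz)
      exact ⟨U, hU, hxU, fun z hz => (em (z ∈ V)).elim (fun a => hsub ⟨a, hz.2⟩) (fun a => hsub' ⟨hz.1, hz.2, a⟩)⟩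
    · exact ⟨Yᶜ, hY.isOpen_compl, hx, fun z hz => absurd hz.2 hz.1⟩

/-- A constructible set stable under generalization in a Noetherian quasi-sober space is open. -/
theorem isOpen_of_isConstructible_of_stable [NoetherianSpace X] [QuasiSober X] {E : Set X}
    (hE : IsConstructible E) (hs : StableUnderGeneralization E) : IsOpen E := by
  rw [isOpen_iff_mem_nhds]
  intro x hx
  refine mem_nhds_of_forall_irred fun Y hY hirr hxY => ?_
  have hη := hirr.isGenericPoint_genericPoint hY
  refine exists_open_of_isConstructible hE hirr ?_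
  calc Y = closure {hirr.genericPoint} := hη.def.symm
    _ ⊆ closure (E ∩ Y) := closure_mono (singleton_subset_iff.2 ⟨hs (hη.specializes hxY) hx, hη.mem⟩)

theorem isConstructible_preimage_val [PrespectralSpace X] {T : Set X} (hT : IsRetrocompact T) {E : Set X}
    (hE : IsConstructible E) : IsConstructible ((Subtype.val : T → X) ⁻¹' E) := by
  refine hE.preimage continuous_subtype_val fun U hU hU' W hW hW' => ?_
  obtain ⟨O, hO, rfl⟩ := isOpen_induced_iff.1 hW'
  obtain ⟨V, hV, hV', hKV, hVO⟩ := PrespectralSpace.exists_isCompact_and_isOpen_between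
    (hW.image continuous_subtype_val) hO (image_preimage_subset _ _)
  rw [IsEmbedding.subtypeVal.isCompact_iff, ← preimage_inter, Subtype.image_preimage_coe]
  have e : T ∩ (U ∩ O) = T ∩ (U ∩ V) := by
    refine Subset.antisymm (fun x hx => ⟨hx.1, hx.2.1, hKV ⟨⟨x, hx.1⟩, hx.2.2, rfl⟩⟩) ?_
    exact fun x hx => ⟨hx.1, hx.2.1, hVO hx.2.2⟩
  rw [e]
  exact hT (hU' hV hV') (hU.inter hV')

end Groth.Agent.SpecLib

namespace Groth.Agent.SpecLib

variable {X : Type u} [TopologicalSpace X]

theorem isConstructible_preimage_inclusion [PrespectralSpace X] {A E : Set X} (hAE : A ⊆ E)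
    (hA : IsRetrocompact A) (hE : IsRetrocompact E) {F : Set E} (hF : IsConstructible F) :
    IsConstructible (Set.inclusion hAE ⁻¹' F) := by
  refine hF.preimage (continuous_inclusion hAE) fun U hU hU' W hW hW' => ?_
  obtain ⟨O, hO, rfl⟩ := isOpen_induced_iff.1 hW'
  obtain ⟨V, hV, hV', hKV, hVO⟩ := PrespectralSpace.exists_isCompact_and_isOpen_between
    (hW.image continuous_subtype_val) hO (image_preimage_subset _ _)
  have hVE : IsCompact (Subtype.val ⁻¹' V : Set E) := by
    rw [IsEmbedding.subtypeVal.isCompact_iff, Subtype.image_preimage_coe]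
    exact hE hV hV'
  have hK : IsCompact (U ∩ Subtype.val ⁻¹' V) := hU' hVE (hV'.preimage continuous_subtype_val)
  obtain ⟨O', hO', hUO⟩ := isOpen_induced_iff.1 hU
  subst hUO
  obtain ⟨V', hV₁, hV₂, hKV', hV'O⟩ := PrespectralSpace.exists_isCompact_and_isOpen_between
    (hK.image continuous_subtype_val) (hO'.inter hV') (by rintro _ ⟨z, hz, rfl⟩; exact hz)
  rw [IsEmbedding.subtypeVal.isCompact_iff]
  convert hA hV₁ hV₂ using 1
  refine Subset.antisymm ?_ fun x hx => ?_
  · rintro _ ⟨z, ⟨hz, hz'⟩, rfl⟩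
    exact ⟨z.2, hKV' ⟨Set.inclusion hAE z, ⟨hz, hKV ⟨z, hz', rfl⟩⟩, rfl⟩⟩
  · exact ⟨⟨x, hx.1⟩, ⟨(hV'O hx.2).1, hVO (hV'O hx.2).2⟩, rfl⟩

theorem isConstructible_image_sdiff {U V : Set X} (hU : IsOpen U) (hU' : IsRetrocompact U) (hV : IsOpen V)
    (hV' : IsRetrocompact V) {G : Set ↥(U \ V)} (hG : IsConstructible G) :
    IsConstructible (Subtype.val '' G) := by
  let i : ↥(U \ V) → U := Set.inclusion sdiff_subset
  have hr : range i = (Subtype.val ⁻¹' V : Set U)ᶜ := by
    ext z
    simp only [i, range_inclusion, mem_compl_iff, mem_preimage, Set.mem_setOf_eq]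
    exact ⟨fun h => h.2, fun h => ⟨z.2, h⟩⟩
  have hi : IsClosedEmbedding i :=
    ⟨IsEmbedding.inclusion _, hr ▸ (hV.preimage continuous_subtype_val).isClosed_compl⟩
  have h1 : IsConstructible (i '' G) := hG.image_of_isClosedEmbedding hi
    (by rw [hr, compl_compl]; exact hV'.preimage_of_isOpenEmbedding hU.isOpenEmbedding_subtypeVal)
  have h2 := h1.image_of_isOpenEmbedding hU.isOpenEmbedding_subtypeVal (by rwa [Subtype.range_coe])
  rwa [image_image] at h2

theorem isConstructible_inter_of_preimage [PrespectralSpace X] {E : Set X} (hE : IsConstructible E) :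
    ∀ F : Set X, IsConstructible (Subtype.val ⁻¹' F : Set E) → IsConstructible (F ∩ E) := by
  induction E, hE using BooleanSubalgebra.closure_sdiff_sup_induction with
  | isSublattice =>
    exact ⟨fun s hs t ht ↦ ⟨hs.1.union ht.1, hs.2.union ht.2⟩,
      fun s hs t ht ↦ ⟨hs.1.inter ht.1, hs.2.inter_isOpen ht.2 ht.1⟩⟩
  | bot_mem => exact ⟨isOpen_empty, .empty⟩
  | top_mem => exact ⟨isOpen_univ, .univ⟩
  | sdiff U hU V hV =>
    intro F hF
    have := isConstructible_image_sdiff hU.1 hU.2 hV.1 hV.2 hF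
    rwa [Subtype.image_preimage_coe, inter_comm] at this
  | sup s hs t ht ihs iht =>
    intro F hF
    show IsConstructible (F ∩ (s ∪ t))
    rw [inter_union_distrib_left]
    exact (ihs F (isConstructible_preimage_inclusion subset_union_left (isRetrocompact_of_isConstructible hs)
      ((isRetrocompact_of_isConstructible hs).union (isRetrocompact_of_isConstructible ht)) hF)).union
      (iht F (isConstructible_preimage_inclusion subset_union_right (isRetrocompact_of_isConstructible ht)
      ((isRetrocompact_of_isConstructible hs).union (isRetrocompact_of_isConstructible ht)) hF))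

end Groth.Agent.SpecLib
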