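import Mathlib.Topology.Spectral.Basic
import Mathlib.Topology.Spectral.ConstructibleTopology
import Mathlib.Topology.Spectral.Hom
import Mathlib.Topology.Constructible
import Mathlib.Topology.Connected.TotallyDisconnected

/-!
# Spectral spaces and their constructible topology
-/

set_option autoImplicit false
set_option linter.style.haveILetI false

universe u v

open Topology TopologicalSpace Set

namespace Groth.Agent.SpecLib

variable {X : Type u} [TopologicalSpace X] {Y : Type v} [TopologicalSpace Y]

/-- Closed for the constructible topology. -/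
def CC (E : Set X) : Prop := IsClosed[constructibleTopology X] E

/-- Open for the constructible topology. -/
def CO (E : Set X) : Prop := IsOpen[constructibleTopology X] E

theorem CC.compl {E : Set X} (h : CC E) : CO Eᶜ := @IsClosed.isOpen_compl X (constructibleTopology X) E h

theorem CO.compl {E : Set X} (h : CO E) : CC Eᶜ :=
  @IsClosed.mk X (constructibleTopology X) Eᶜ ((compl_compl E).symm ▸ h)

theorem CC.inter {E F : Set X} (hE : CC E) (hF : CC F) : CC (E ∩ F) :=
  @IsClosed.inter X _ _ (constructibleTopology X) hE hF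

theorem CC.union {E F : Set X} (hE : CC E) (hF : CC F) : CC (E ∪ F) :=
  @IsClosed.union X _ _ (constructibleTopology X) hE hF

theorem CO.inter {E F : Set X} (hE : CO E) (hF : CO F) : CO (E ∩ F) :=
  @IsOpen.inter X (constructibleTopology X) _ _ hE hF

theorem CO.union {E F : Set X} (hE : CO E) (hF : CO F) : CO (E ∪ F) :=
  @IsOpen.union X _ _ (constructibleTopology X) hE hF

theorem CC.sInter {S : Set (Set X)} (h : ∀ T ∈ S, CC T) : CC (⋂₀ S) :=
  @isClosed_sInter X (constructibleTopology X) S h

theorem CC.iInter {ι : Sort*} {f : ι → Set X} (h : ∀ i, CC (f i)) : CC (⋂ i, f i) :=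
  @isClosed_iInter X _ (constructibleTopology X) f h

theorem CO.iUnion {ι : Sort*} {f : ι → Set X} (h : ∀ i, CO (f i)) : CO (⋃ i, f i) :=
  @isOpen_iUnion X _ (constructibleTopology X) f h

theorem co_of_isOpen_isCompact {U : Set X} (ho : IsOpen U) (hc : IsCompact U) : CO U :=
  hc.isOpen_constructibleTopology_of_isOpen ho

theorem cc_of_isOpen_isCompact {U : Set X} (ho : IsOpen U) (hc : IsCompact U) : CC U :=
  @IsClosed.mk X (constructibleTopology X) U
    (IsCompact.isOpen_constructibleTopology_of_isClosed (by rwa [compl_compl]) ho.isClosed_compl)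

section pre

variable [PrespectralSpace X]

theorem cons_le : constructibleTopology X ≤ ‹TopologicalSpace X› := by
  intro U hU
  obtain ⟨S, hS, rfl⟩ := PrespectralSpace.isTopologicalBasis.open_eq_sUnion hU
  exact @isOpen_sUnion X (constructibleTopology X) S fun s hs => co_of_isOpen_isCompact (hS hs).1 (hS hs).2

theorem cc_of_isClosed {E : Set X} (h : IsClosed E) : CC E := h.mono cons_le

theorem co_of_isOpen {E : Set X} (h : IsOpen E) : CO E := cons_le _ h

theorem exists_qc {x : X} {O : Set X} (hx : x ∈ O) (hO : IsOpen O) :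
    ∃ U : Set X, IsOpen U ∧ IsCompact U ∧ x ∈ U ∧ U ⊆ O := by
  obtain ⟨U, ⟨h1, h2⟩, h3, h4⟩ := PrespectralSpace.isTopologicalBasis.exists_subset_of_mem_open hx hO
  exact ⟨U, h1, h2, h3, h4⟩

theorem exists_qc_separating [T0Space X] {x y : X} (h : x ≠ y) :
    ∃ U : Set X, IsOpen U ∧ IsCompact U ∧ ¬ (x ∈ U ↔ y ∈ U) := by
  obtain ⟨O, hO, hx⟩ := exists_isOpen_xor_mem h
  rcases hx with ⟨hx, hy⟩ | ⟨hy, hx⟩
  · obtain ⟨U, h1, h2, h3, h4⟩ := exists_qc hx hO
    exact ⟨U, h1, h2, fun e => hy (h4 (e.1 h3))⟩
  · obtain ⟨U, h1, h2, h3, h4⟩ := exists_qc hy hO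
    exact ⟨U, h1, h2, fun e => hx (h4 (e.2 h3))⟩

theorem specializes_of_forall_qc {x y : X}
    (h : ∀ U : Set X, IsOpen U → IsCompact U → y ∈ U → x ∈ U) : x ⤳ y := by
  rw [specializes_iff_forall_open]
  intro O hO hy
  obtain ⟨U, h1, h2, h3, h4⟩ := exists_qc hy hO
  exact h4 (h U h1 h2 h3)

theorem exists_clopen_separating [T0Space X] {x y : X} (h : x ≠ y) :
    ∃ U : Set X, CC U ∧ CO U ∧ x ∈ U ∧ y ∉ U := by
  obtain ⟨U, h1, h2, h3⟩ := exists_qc_separating h
  by_cases hx : x ∈ U
  · exact ⟨U, cc_of_isOpen_isCompact h1 h2, co_of_isOpen_isCompact h1 h2, hx, fun hy => h3 (iff_of_true hx hy)⟩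
  · exact ⟨Uᶜ, (co_of_isOpen_isCompact h1 h2).compl, (cc_of_isOpen_isCompact h1 h2).compl, hx,
      fun hy => h3 (iff_of_false hx hy)⟩

theorem totallySeparated_cons [T0Space X] :
    @TotallySeparatedSpace X (constructibleTopology X) :=
  (@totallySeparatedSpace_iff_exists_isClopen X (constructibleTopology X)).2 fun x y h => by
    obtain ⟨U, h1, h2, h3, h4⟩ := exists_clopen_separating h
    exact ⟨U, ⟨h1, h2⟩, h3, h4⟩

theorem t2_cons [T0Space X] : @T2Space X (constructibleTopology X) :=
  @T2Space.mk X (constructibleTopology X) fun x y h => by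
    obtain ⟨U, h1, h2, h3, h4⟩ := exists_clopen_separating h
    exact ⟨U, Uᶜ, h2, h1.compl, h3, h4, disjoint_compl_right⟩

theorem cc_singleton [T0Space X] (x : X) : CC ({x} : Set X) :=
  @isClosed_singleton X (constructibleTopology X) (@T2Space.t1Space X (constructibleTopology X) t2_cons) x

end pre

/-- In a qcqs space constructible sets are clopen for the constructible topology. -/
theorem cons_clopen [CompactSpace X] [QuasiSeparatedSpace X] {E : Set X} (h : IsConstructible E) :
    CC E ∧ CO E := by
  refine IsConstructible.empty_union_induction (p := fun s _ => CC s ∧ CO s) ?_ ?_ ?_ h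
  · intro U hU hU'
    exact ⟨cc_of_isOpen_isCompact hU hU'.isCompact, co_of_isOpen_isCompact hU hU'.isCompact⟩
  · rintro s _ t _ ⟨a, b⟩ ⟨c, d⟩
    exact ⟨a.union c, b.union d⟩
  · rintro s _ ⟨a, b⟩
    exact ⟨b.compl, a.compl⟩

section spectral

variable [CompactSpace X] [QuasiSeparatedSpace X] [PrespectralSpace X] [QuasiSober X]

theorem compactSpace_cons : @CompactSpace X (constructibleTopology X) :=
  @Function.Surjective.compactSpace _ X _ (constructibleTopology X) _
    (WithTopology.continuous_ofTopology _) _ (WithTopology.ofTopology_surjective _)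

theorem CC.isCompact_cons {E : Set X} (h : CC E) : @IsCompact X (constructibleTopology X) E :=
  @IsClosed.isCompact X (constructibleTopology X) _ compactSpace_cons h

theorem CC.isCompact {E : Set X} (h : CC E) : IsCompact E := by
  have := @IsCompact.image X X (constructibleTopology X) ‹_› E id h.isCompact_cons (continuous_id_iff_le.mpr cons_le)
  rwa [Set.image_id] at this

theorem CC.nonempty_iInter {ι : Type*} [Nonempty ι] (f : ι → Set X) (hd : Directed (· ⊇ ·) f)
    (hn : ∀ i, (f i).Nonempty) (hc : ∀ i, CC (f i)) : (⋂ i, f i).Nonempty :=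
  @IsCompact.nonempty_iInter_of_directed_nonempty_isCompact_isClosed X (constructibleTopology X) ι _
    f hd hn (fun i => (hc i).isCompact_cons) hc

/-- Every point of the closure of a constructibly closed set is a specialization of one of its points. -/
theorem CC.exists_specializes {E : Set X} (h : CC E) {y : X} (hy : y ∈ closure E) :
    ∃ z ∈ E, z ⤳ y := by
  let ι := {U : Set X // IsOpen U ∧ IsCompact U ∧ y ∈ U}
  haveI : Nonempty ι := ⟨⟨Set.univ, isOpen_univ, isCompact_univ, trivial⟩⟩
  obtain ⟨z, hz⟩ := CC.nonempty_iInter (fun U : ι => E ∩ U.1)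
    (fun U V => ⟨⟨U.1 ∩ V.1, U.2.1.inter V.2.1,
      QuasiSeparatedSpace.inter_isCompact _ _ U.2.1 U.2.2.1 V.2.1 V.2.2.1, U.2.2.2, V.2.2.2⟩,
      fun z hz => ⟨hz.1, hz.2.1⟩, fun z hz => ⟨hz.1, hz.2.2⟩⟩)
    (fun U => by rw [Set.inter_comm]; exact mem_closure_iff.mp hy U.1 U.2.1 U.2.2.2)
    (fun U => h.inter (cc_of_isOpen_isCompact U.2.1 U.2.2.1))
  rw [Set.mem_iInter] at hz
  exact ⟨z, (hz (Classical.arbitrary ι)).1, specializes_of_forall_qc fun U h1 h2 h3 => (hz ⟨U, h1, h2, h3⟩).2⟩

theorem CC.isClosed {E : Set X} (h : CC E) (hs : StableUnderSpecialization E) : IsClosed E :=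
  isClosed_of_closure_subset fun _ hx => by
    obtain ⟨z, hz, hzx⟩ := h.exists_specializes hx
    exact hs hzx hz

theorem CO.isOpen {E : Set X} (h : CO E) (hs : StableUnderGeneralization E) : IsOpen E :=
  isClosed_compl_iff.1 (h.compl.isClosed hs.compl)

end spectral

/-- A spectral map is continuous for the constructible topologies. -/
theorem IsSpectralMap.continuous_cons {f : X → Y} (hf : IsSpectralMap f) :
    @Continuous X Y (constructibleTopology X) (constructibleTopology Y) f := by
  refine continuous_generateFrom_iff.2 fun s hs => ?_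
  rcases hs with ⟨h1, h2⟩ | ⟨h1, h2⟩
  · exact co_of_isOpen_isCompact (h1.preimage hf.continuous) (hf.isCompact_preimage_of_isOpen h1 h2)
  · refine IsCompact.isOpen_constructibleTopology_of_isClosed ?_ (h1.preimage hf.continuous)
    rw [← preimage_compl]
    exact hf.isCompact_preimage_of_isOpen h1.isOpen_compl h2

theorem CC.preimage {f : X → Y} (hf : IsSpectralMap f) {E : Set Y} (hE : CC E) : CC (f ⁻¹' E) :=
  @IsClosed.preimage X Y (constructibleTopology X) (constructibleTopology Y) f (IsSpectralMap.continuous_cons hf) E hE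

theorem CC.image [SpectralSpace X] [SpectralSpace Y] {f : X → Y} (hf : IsSpectralMap f) {E : Set X}
    (hE : CC E) : CC (f '' E) :=
  @IsCompact.isClosed Y (constructibleTopology Y) t2_cons _
    (@IsCompact.image X Y (constructibleTopology X) (constructibleTopology Y) E f hE.isCompact_cons
      (IsSpectralMap.continuous_cons hf))

/-- A subspace closed for the constructible topology of a spectral space is spectral. -/
theorem spectralSpace_of_cc [SpectralSpace X] {E : Set X} (hE : CC E) : SpectralSpace E := by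
  have hemb : IsEmbedding (Subtype.val : E → X) := IsEmbedding.subtypeVal
  haveI : CompactSpace E := isCompact_iff_compactSpace.1 hE.isCompact
  -- compact opens of `E` are traces of compact opens of `X`
  have key : ∀ V : Set E, IsOpen V → IsCompact V →
      ∃ U : Set X, IsOpen U ∧ IsCompact U ∧ V = Subtype.val ⁻¹' U := by
    intro V ho hc
    obtain ⟨O, hO, rfl⟩ := isOpen_induced_iff.1 ho
    obtain ⟨W, hW, hW', hVW, hWO⟩ := PrespectralSpace.exists_isCompact_and_isOpen_between
      (hc.image continuous_subtype_val) hO (image_preimage_subset _ _)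
    refine ⟨W, hW', hW, Subset.antisymm (fun v hv => hVW ⟨v, hv, rfl⟩) (preimage_mono hWO)⟩
  have hcomp : ∀ U : Set X, IsOpen U → IsCompact U → IsCompact (Subtype.val ⁻¹' U : Set E) := by
    intro U h1 h2
    rw [hemb.isCompact_iff, Subtype.image_preimage_coe]
    exact (hE.inter (cc_of_isOpen_isCompact h1 h2)).isCompact
  haveI : QuasiSeparatedSpace E := ⟨fun V₁ V₂ h1 h1' h2 h2' => by
    obtain ⟨U₁, a1, b1, rfl⟩ := key V₁ h1 h1'
    obtain ⟨U₂, a2, b2, rfl⟩ := key V₂ h2 h2'
    rw [← preimage_inter]
    exact hcomp _ (a1.inter a2) (QuasiSeparatedSpace.inter_isCompact _ _ a1 b1 a2 b2)⟩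
  haveI : PrespectralSpace E := by
    refine ⟨isTopologicalBasis_of_isOpen_of_nhds (fun _ h => h.1) fun a V ha hV => ?_⟩
    obtain ⟨O, hO, rfl⟩ := isOpen_induced_iff.1 hV
    obtain ⟨U, h1, h2, h3, h4⟩ := exists_qc (x := (a : X)) ha hO
    exact ⟨Subtype.val ⁻¹' U, ⟨h1.preimage continuous_subtype_val, hcomp U h1 h2⟩, h3, preimage_mono h4⟩
  haveI : QuasiSober E := ⟨fun {Z} hZ hZc => by
    have hcl : CC (Subtype.val '' Z : Set X) := by
      obtain ⟨C, hC, rfl⟩ := isClosed_induced_iff.1 hZc
      rw [Subtype.image_preimage_coe]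
      exact hE.inter (cc_of_isClosed hC)
    have hi : IsIrreducible (Subtype.val '' Z : Set X) := hZ.image _ continuous_subtype_val.continuousOn
    have hη := hi.isGenericPoint_genericPoint_closure
    obtain ⟨z, hz, hzη⟩ := hcl.exists_specializes hη.mem
    have he : hi.genericPoint = z :=
      ((hη.specializes (subset_closure hz)).antisymm hzη).eq
    obtain ⟨z, hz', rfl⟩ := hz
    refine ⟨z, ?_⟩
    rw [isGenericPoint_def, hemb.closure_eq_preimage_closure_image, image_singleton]
    rw [← he, hη.def]
    rw [← hemb.closure_eq_preimage_closure_image, hZc.closure_eq]⟩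
  haveI : T0Space E := Subtype.t0Space
  exact {}

end Groth.Agent.SpecLib
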