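import Groth.Agent.SpecLib.Basic
import Mathlib.RingTheory.Spectrum.Prime.Topology

/-!
# T1 spectral spaces are profinite
-/

set_option autoImplicit false

universe u

open Topology

namespace Groth.Agent.SpecLib

theorem constructibleTopology_eq_of_t1 (X : Type u) [t : TopologicalSpace X] [SpectralSpace X] [T1Space X] :
    constructibleTopology X = t :=
  le_antisymm cons_le fun E hE =>
    CO.isOpen hE fun _ _ h hy => (specializes_iff_eq.1 h).symm ▸ hy

theorem profinite_of_t1 (X : Type u) [t : TopologicalSpace X] [SpectralSpace X] [T1Space X] :
    CompactSpace X ∧ T2Space X ∧ TotallyDisconnectedSpace X := by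
  have h2 : @T2Space X (constructibleTopology X) := t2_cons
  have h3 : @TotallySeparatedSpace X (constructibleTopology X) := totallySeparated_cons
  rw [constructibleTopology_eq_of_t1 X] at h2 h3
  exact ⟨inferInstance, h2, inferInstance⟩

end Groth.Agent.SpecLib
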