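import Groth.Agent.SpecLib.Basic
import Mathlib.Topology.Category.TopCat.Limits.Cofiltered
import Mathlib.Topology.Category.TopCat.Limits.Konig
import Mathlib.CategoryTheory.Filtered.Final
import Mathlib.CategoryTheory.Limits.Final
import Mathlib.CategoryTheory.Limits.ConcreteCategory.Basic

/-!
# Limits of spectral spaces along spectral maps
-/

set_option autoImplicit false
set_option linter.style.haveILetI false

universe u

open CategoryTheory CategoryTheory.Limits Topology TopologicalSpace Set

namespace Groth.Agent.SpecLib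

section product

theorem continuous_mapW {X Y : Type u} [TopologicalSpace X] [TopologicalSpace Y] {f : X → Y} (hf : IsSpectralMap f) :
    Continuous (fun w : WithConstructibleTopology X =>
      WithTopology.toTopology (constructibleTopology Y) (f w.ofTopology)) :=
  @Continuous.comp _ _ _ _ (constructibleTopology Y) _ _ _ (WithTopology.continuous_toTopology _)
    (@Continuous.comp _ _ _ _ (constructibleTopology X) (constructibleTopology Y) _ _
      (IsSpectralMap.continuous_cons hf) (WithTopology.continuous_ofTopology _))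

theorem isClosed_W {X : Type u} [TopologicalSpace X] {E : Set X} (hE : CC E) :
    IsClosed {w : WithConstructibleTopology X | w.ofTopology ∈ E} :=
  WithConstructibleTopology.isClosed_iff.2 hE

theorem t2Space_W {X : Type u} [TopologicalSpace X] [PrespectralSpace X] [T0Space X] :
    T2Space (WithConstructibleTopology X) := by
  refine ⟨fun v w h => ?_⟩
  obtain ⟨U, h1, h2, h3, h4⟩ := exists_clopen_separating
    (fun e => h (WithTopology.ofTopology_injective _ e) : v.ofTopology ≠ w.ofTopology)
  exact ⟨{x | x.ofTopology ∈ U}, {x | x.ofTopology ∉ U}, WithConstructibleTopology.isOpen_iff.2 h2,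
    WithConstructibleTopology.isOpen_iff.2 h1.compl, h3, h4, Set.disjoint_left.2 fun x hx hx' => hx' hx⟩

theorem continuous_ofW {X : Type u} [TopologicalSpace X] [PrespectralSpace X] :
    Continuous (WithTopology.ofTopology (X := X) (t := constructibleTopology X)) :=
  ⟨fun _ hU => WithConstructibleTopology.isOpen_iff.2 (cons_le _ hU)⟩

/-- Points of a product of spectral spaces subject to spectral compatibility conditions and lying in
constructibly closed sets form a compact set. -/
theorem isCompact_compat {ι : Type u} (X : ι → Type u) [∀ i, TopologicalSpace (X i)]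
    [∀ i, SpectralSpace (X i)] {κ : Sort*} (s t : κ → ι) (f : ∀ k, X (s k) → X (t k))
    (hf : ∀ k, IsSpectralMap (f k)) (Z : ∀ i, Set (X i)) (hZ : ∀ i, CC (Z i)) :
    IsCompact {u : ∀ i, X i | (∀ k, f k (u (s k)) = u (t k)) ∧ ∀ i, u i ∈ Z i} := by
  let K : Set (∀ i, WithConstructibleTopology (X i)) :=
    (⋂ k, {u | WithTopology.toTopology _ (f k (u (s k)).ofTopology) = u (t k)}) ∩
      (⋂ i, (fun u => u i) ⁻¹' {w | w.ofTopology ∈ Z i})
  have hcl : IsClosed K := by
    refine (isClosed_iInter fun k => ?_).inter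
      (isClosed_iInter fun i => (isClosed_W (hZ i)).preimage (continuous_apply i))
    haveI := t2Space_W (X := X (t k))
    exact isClosed_eq ((continuous_mapW (hf k)).comp (continuous_apply (s k))) (continuous_apply (t k))
  have hφ : Continuous (fun (u : ∀ i, WithConstructibleTopology (X i)) (i : ι) => (u i).ofTopology) :=
    continuous_pi fun i => continuous_ofW.comp (continuous_apply i)
  convert hcl.isCompact.image hφ using 1
  refine Subset.antisymm (fun u hu => ⟨fun i => WithTopology.toTopology _ (u i),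
    ⟨mem_iInter.2 fun k => congrArg (WithTopology.toTopology _) (hu.1 k), mem_iInter.2 hu.2⟩, rfl⟩) ?_
  rintro _ ⟨u, ⟨h1, h2⟩, rfl⟩
  exact ⟨fun k => congrArg WithTopology.ofTopology (mem_iInter.1 h1 k), mem_iInter.1 h2⟩

end product

variable {J : Type u} [SmallCategory J] {F : J ⥤ TopCat.{u}} (c : Cone F) (hc : IsLimit c)

/-- The map from the vertex of a cone to the product. -/
def toPi (x : c.pt) : ∀ j, F.obj j := fun j => c.π.app j x

theorem compat (x : c.pt) {i j : J} (a : i ⟶ j) : F.map a (c.π.app i x) = c.π.app j x :=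
  ConcreteCategory.congr_hom (c.w a) x

theorem preimage_map {i j : J} (a : i ⟶ j) (V : Set (F.obj j)) :
    c.π.app j ⁻¹' V = c.π.app i ⁻¹' (F.map a ⁻¹' V) := by
  ext x; simp only [mem_preimage, compat]

section lim
include hc

theorem toPi_injective : Function.Injective (toPi c) := by
  intro x y h
  exact Concrete.isLimit_ext F hc x y fun j => congrFun h j

theorem toPi_surj (u : ∀ j, F.obj j) (hu : ∀ {i j : J} (a : i ⟶ j), F.map a (u i) = u j) :
    ∃ x : c.pt, toPi c x = u := by
  refine ⟨(hc.conePointUniqueUpToIso (TopCat.limitConeIsLimit F)).inv ⟨u, fun a => hu a⟩, funext fun j => ?_⟩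
  exact ConcreteCategory.congr_hom
    (hc.conePointUniqueUpToIso_inv_comp (TopCat.limitConeIsLimit F) j) ⟨u, fun a => hu a⟩

theorem isInducing_toPi : IsInducing (toPi c) := by
  refine ⟨?_⟩
  show c.pt.str = induced (toPi c) Pi.topologicalSpace
  rw [TopCat.induced_of_isLimit c hc, Pi.topologicalSpace, induced_iInf]
  simp only [induced_compose]
  rfl

theorem continuous_app (j : J) : Continuous (c.π.app j : c.pt → F.obj j) :=
  (c.π.app j).hom.continuous

end lim

variable (hF : ∀ j, SpectralSpace (F.obj j))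
  (hFm : ∀ {i j : J} (a : i ⟶ j), IsSpectralMap (F.map a : F.obj i → F.obj j))

include hc hF hFm

theorem isCompact_forall_mem (Z : ∀ j, Set (F.obj j)) (hZ : ∀ j, CC (Z j)) :
    IsCompact {x : c.pt | ∀ j, c.π.app j x ∈ Z j} := by
  haveI := hF
  have hK := isCompact_compat (fun j => F.obj j) (fun k : (Σ i j : J, i ⟶ j) => k.1) (fun k => k.2.1)
    (fun k => (F.map k.2.2 : F.obj k.1 → F.obj k.2.1)) (fun k => hFm k.2.2) Z hZ
  rw [(isInducing_toPi c hc).isCompact_iff]
  convert hK using 1
  refine Subset.antisymm ?_ ?_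
  · rintro _ ⟨x, hx, rfl⟩
    exact ⟨fun k => compat c x k.2.2, hx⟩
  · rintro u ⟨h1, h2⟩
    obtain ⟨x, rfl⟩ := toPi_surj c hc u (fun {i j} a => h1 ⟨i, j, a⟩)
    exact ⟨x, h2, rfl⟩

theorem compactSpace_limit : CompactSpace c.pt := by
  refine ⟨?_⟩
  simpa using isCompact_forall_mem c hc hF hFm (fun _ => univ)
    (fun _ => @isClosed_univ _ (constructibleTopology _))

theorem isCompact_preimage {i : J} {E : Set (F.obj i)} (hE : CC E) : IsCompact (c.π.app i ⁻¹' E) := by
  classical
  haveI := hF
  let Z : ∀ j, Set (F.obj j) := fun j => if h : j = i then h ▸ E else univ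
  have hZ : ∀ j, CC (Z j) := fun j => by
    by_cases h : j = i
    · subst h; simpa [Z] using hE
    · simpa [Z, h, CC] using @isClosed_univ _ (constructibleTopology (F.obj j))
  suffices e : c.π.app i ⁻¹' E = {x : c.pt | ∀ j, c.π.app j x ∈ Z j} by
    rw [e]; exact isCompact_forall_mem c hc hF hFm Z hZ
  ext x
  refine ⟨fun hx j => ?_, fun hx => by simpa [Z] using hx i⟩
  by_cases h : j = i
  · subst h; simpa [Z] using hx
  · simp [Z, h]

theorem quasiSober_limit_of_basis {B : Set (Set c.pt)} (hB : IsTopologicalBasis B)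
    (hB' : ∀ W ∈ B, ∃ (j : J) (V : Set (F.obj j)), IsOpen V ∧ W = c.π.app j ⁻¹' V) :
    QuasiSober c.pt := by
  refine ⟨fun {Z} hZ hZc => ?_⟩
  have hi : ∀ j, IsIrreducible (c.π.app j '' Z) := fun j => hZ.image _ (continuous_app c hc j).continuousOn
  haveI := hF
  let η : ∀ j, F.obj j := fun j => (hi j).genericPoint
  have hη : ∀ j, IsGenericPoint (η j) (closure (c.π.app j '' Z)) := fun j => (hi j).isGenericPoint_genericPoint_closure
  obtain ⟨x, hx⟩ := toPi_surj c hc η fun {i j} a => by
    have h := (hη i).image (F.map a).hom.continuous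
    have e : closure (F.map a '' closure (c.π.app i '' Z)) = closure (c.π.app j '' Z) := by
      rw [closure_image_closure (F.map a).hom.continuous, Set.image_image]
      exact congrArg closure (image_congr fun z _ => compat c z a)
    rw [e] at h
    exact ((h.specializes (hη j).mem).antisymm ((hη j).specializes h.mem)).eq
  have hxj : ∀ j, c.π.app j x = η j := fun j => congrFun hx j
  refine ⟨x, ?_⟩
  have hxZ : x ∈ Z := by
    rw [← hZc.closure_eq, hB.mem_closure_iff]
    intro W hW hxW
    obtain ⟨j, V, hV, rfl⟩ := hB' W hW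
    rw [mem_preimage, hxj] at hxW
    obtain ⟨_, hw, z, hz, rfl⟩ := mem_closure_iff.1 (hη j).mem V hV hxW
    exact ⟨z, hw, hz⟩
  refine Subset.antisymm (hZc.closure_subset_iff.2 (singleton_subset_iff.2 hxZ)) fun z hz => ?_
  rw [hB.mem_closure_iff]
  intro W hW hzW
  obtain ⟨j, V, hV, rfl⟩ := hB' W hW
  refine ⟨x, ?_, rfl⟩
  show c.π.app j x ∈ V
  rw [hxj]
  exact ((hη j).specializes (subset_closure ⟨z, hz, rfl⟩)).mem_open hV hzW

theorem t0Space_limit : T0Space c.pt := by
  haveI := hF
  exact Topology.IsEmbedding.t0Space ⟨isInducing_toPi c hc, toPi_injective c hc⟩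

section cofiltered

variable [IsCofiltered J]

theorem isBasis_limit :
    IsTopologicalBasis {W : Set c.pt | ∃ (j : J) (V : Set (F.obj j)), (IsOpen V ∧ IsCompact V) ∧ W = c.π.app j ⁻¹' V} := by
  haveI := hF
  exact TopCat.isTopologicalBasis_cofiltered_limit (F := F) (C := c) hc (fun j => {V | IsOpen V ∧ IsCompact V})
    (fun j => PrespectralSpace.isTopologicalBasis (X := F.obj j)) (fun j => ⟨isOpen_univ, isCompact_univ⟩)
    (fun j U V hU hV => ⟨hU.1.inter hV.1, QuasiSeparatedSpace.inter_isCompact _ _ hU.1 hU.2 hV.1 hV.2⟩)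
    (fun i j a V hV => ⟨hV.1.preimage (F.map a).hom.continuous, (hFm a).isCompact_preimage_of_isOpen hV.1 hV.2⟩)

omit hc in
theorem exists_union {i j : J} {U : Set (F.obj i)} {V : Set (F.obj j)} (hU : IsOpen U) (hU' : IsCompact U)
    (hV : IsOpen V) (hV' : IsCompact V) :
    ∃ (k : J) (W : Set (F.obj k)), IsOpen W ∧ IsCompact W ∧
      c.π.app k ⁻¹' W = c.π.app i ⁻¹' U ∪ c.π.app j ⁻¹' V := by
  refine ⟨IsCofiltered.min i j, F.map (IsCofiltered.minToLeft i j) ⁻¹' U ∪ F.map (IsCofiltered.minToRight i j) ⁻¹' V,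
    (hU.preimage (F.map _).hom.continuous).union (hV.preimage (F.map _).hom.continuous),
    ((hFm _).isCompact_preimage_of_isOpen hU hU').union ((hFm _).isCompact_preimage_of_isOpen hV hV'), ?_⟩
  rw [preimage_union, ← preimage_map, ← preimage_map]

theorem exists_eq_preimage {U : Set c.pt} (ho : IsOpen U) (hcpt : IsCompact U) :
    ∃ (i : J) (Ui : Set (F.obj i)), IsOpen Ui ∧ IsCompact Ui ∧ c.π.app i ⁻¹' Ui = U := by
  classical
  obtain ⟨S, hS, hUS⟩ := (isBasis_limit c hc hF hFm).open_eq_sUnion ho
  obtain ⟨t, ht⟩ := hcpt.elim_finite_subcover (fun s : S => (s : Set c.pt))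
    (fun s => (isBasis_limit c hc hF hFm).isOpen (hS s.2)) (by rw [hUS, sUnion_eq_iUnion])
  have he : U = ⋃ s ∈ t, (s : Set c.pt) := by
    refine Subset.antisymm ht (iUnion₂_subset fun s _ => ?_)
    rw [hUS]; exact subset_sUnion_of_mem s.2
  rw [he]
  clear ht he
  induction t using Finset.induction_on with
  | empty =>
    exact ⟨IsCofiltered.nonempty.some, ∅, isOpen_empty, isCompact_empty, by simp⟩
  | insert a t _ ih =>
    obtain ⟨j, V, hV, hV', e⟩ := ih
    obtain ⟨i, W, ⟨hW, hW'⟩, e'⟩ := hS a.2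
    obtain ⟨k, W', h1, h2, h3⟩ := exists_union c hF hFm hW hW' hV hV'
    exact ⟨k, W', h1, h2, by rw [h3, e, Finset.set_biUnion_insert, e']⟩

theorem spectralSpace_limit : SpectralSpace c.pt := by
  haveI := hF
  haveI := compactSpace_limit c hc hF hFm
  haveI := t0Space_limit c hc hF hFm
  haveI : QuasiSober c.pt := quasiSober_limit_of_basis c hc hF hFm (isBasis_limit c hc hF hFm)
    fun W ⟨j, V, hV, e⟩ => ⟨j, V, hV.1, e⟩
  haveI : PrespectralSpace c.pt := PrespectralSpace.of_isTopologicalBasis (isBasis_limit c hc hF hFm)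
    fun W ⟨j, V, hV, e⟩ => e ▸ isCompact_preimage c hc hF hFm (cc_of_isOpen_isCompact hV.1 hV.2)
  haveI : QuasiSeparatedSpace c.pt := ⟨fun U V hU hU' hV hV' => by
    obtain ⟨i, U, a, a', rfl⟩ := exists_eq_preimage c hc hF hFm hU hU'
    obtain ⟨j, V, b, b', rfl⟩ := exists_eq_preimage c hc hF hFm hV hV'
    rw [preimage_map c (IsCofiltered.minToLeft i j), preimage_map c (IsCofiltered.minToRight i j), ← preimage_inter]
    exact isCompact_preimage c hc hF hFm
      (((cc_of_isOpen_isCompact a a').preimage (hFm _)).inter ((cc_of_isOpen_isCompact b b').preimage (hFm _)))⟩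
  exact {}

theorem isSpectralMap_app (j : J) : IsSpectralMap (c.π.app j : c.pt → F.obj j) :=
  haveI := hF
  ⟨continuous_app c hc j, fun _ ho hcpt => isCompact_preimage c hc hF hFm (cc_of_isOpen_isCompact ho hcpt)⟩

theorem exists_mem (Z : ∀ j, Set (F.obj j)) (hne : ∀ j, (Z j).Nonempty) (hZ : ∀ j, CC (Z j))
    (hmap : ∀ {i j : J} (a : i ⟶ j), Set.MapsTo (F.map a) (Z i) (Z j)) :
    ∃ x : c.pt, ∀ j, c.π.app j x ∈ Z j := by
  haveI := hF
  let G : J ⥤ TopCat.{u} :=
    { obj := fun j => TopCat.of {w : WithConstructibleTopology (F.obj j) // w.ofTopology ∈ Z j}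
      map := fun {i j} a => TopCat.ofHom
        ⟨fun w => ⟨WithTopology.toTopology _ (F.map a w.1.ofTopology), hmap a w.2⟩,
          ((continuous_mapW (hFm a)).comp continuous_subtype_val).subtype_mk _⟩
      map_id := fun j => by ext w; simp
      map_comp := fun a b => by ext w; simp }
  haveI : ∀ j, Nonempty (G.obj j) := fun j => ⟨⟨WithTopology.toTopology _ (hne j).some, (hne j).some_mem⟩⟩
  haveI : ∀ j, CompactSpace (G.obj j) := fun j => isCompact_iff_compactSpace.1 (isClosed_W (hZ j)).isCompact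
  haveI : ∀ j, T2Space (G.obj j) := fun j => haveI := t2Space_W (X := F.obj j); inferInstanceAs (T2Space {w : WithConstructibleTopology (F.obj j) // w.ofTopology ∈ Z j})
  obtain ⟨u⟩ := TopCat.nonempty_limitCone_of_compact_t2_cofiltered_system.{u} G
  obtain ⟨x, hx⟩ := toPi_surj c hc (fun j => (u.1 j).1.ofTopology)
    fun {i j} a => congrArg (fun w => w.1.ofTopology) (u.2 a)
  exact ⟨x, fun j => by rw [show c.π.app j x = (u.1 j).1.ofTopology from congrFun hx j]; exact (u.1 j).2⟩

theorem preimage_subset_iff (i : J) {E E' : Set (F.obj i)} (hE : CC E) (hE' : CO E') :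
    c.π.app i ⁻¹' E ⊆ c.π.app i ⁻¹' E' ↔ ∃ (j : J) (a : j ⟶ i), F.map a ⁻¹' E ⊆ F.map a ⁻¹' E' := by
  refine ⟨fun h => ?_, fun ⟨j, a, h⟩ => by rw [preimage_map c a, preimage_map c a]; exact preimage_mono h⟩
  by_contra hne
  push Not at hne
  haveI : IsCofiltered (Over i) := inferInstance
  obtain ⟨x, hx⟩ := exists_mem (c.whisker (Over.forget i))
    ((Functor.Initial.isLimitWhiskerEquiv (Over.forget i) c).symm hc)
    (fun k => hF k.left) (fun {k l} a => hFm a.left) (fun k => F.map k.hom ⁻¹' (E \ E'))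
    (fun k => by
      obtain ⟨y, hy, hy'⟩ := not_subset.1 (hne k.left k.hom)
      exact ⟨y, hy, hy'⟩)
    (fun k => (hE.inter hE'.compl).preimage (hFm k.hom))
    (fun {k l} a y hy => by
      have e : F.map l.hom (F.map a.left y) = F.map k.hom y := by
        rw [← Over.w a, F.map_comp]; rfl
      show F.map l.hom (F.map a.left y) ∈ E \ E'
      rw [e]; exact hy)
  have h0 : c.π.app i x ∈ E \ E' := by
    have h1 : F.map (𝟙 i) (c.π.app i x) ∈ E \ E' := hx (Over.mk (𝟙 i))
    rw [compat c x (𝟙 i)] at h1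
    exact h1
  exact h0.2 (h h0.1)

theorem exists_constructible {E : Set c.pt} (hE : IsConstructible E) :
    ∃ (i : J) (Ei : Set (F.obj i)), IsConstructible Ei ∧ c.π.app i ⁻¹' Ei = E := by
  haveI := hF
  haveI := spectralSpace_limit c hc hF hFm
  have pull : ∀ {i k : J} (a : k ⟶ i) {s : Set (F.obj i)}, IsConstructible s → IsConstructible (F.map a ⁻¹' s) :=
    fun a s hs => hs.preimage (F.map a).hom.continuous fun U hU hU' =>
      ((hFm a).isCompact_preimage_of_isOpen hU hU'.isCompact).isRetrocompact (hU.preimage (F.map a).hom.continuous)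
  refine IsConstructible.empty_union_induction
    (p := fun s _ => ∃ (i : J) (Ei : Set (F.obj i)), IsConstructible Ei ∧ c.π.app i ⁻¹' Ei = s) ?_ ?_ ?_ hE
  · intro U hU hU'
    obtain ⟨i, Ui, a, b, e⟩ := exists_eq_preimage c hc hF hFm hU hU'.isCompact
    exact ⟨i, Ui, b.isConstructible a, e⟩
  · rintro s _ t _ ⟨i, A, hA, rfl⟩ ⟨j, B, hB, rfl⟩
    exact ⟨IsCofiltered.min i j, _, (pull (IsCofiltered.minToLeft i j) hA).union (pull (IsCofiltered.minToRight i j) hB),
      by rw [preimage_union, ← preimage_map, ← preimage_map]⟩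
  · rintro s _ ⟨i, A, hA, rfl⟩
    exact ⟨i, Aᶜ, hA.compl, preimage_compl⟩

end cofiltered

end Groth.Agent.SpecLib
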