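import Groth.Prelude.Def_W4stktopologysheavesDim
import Mathlib.Topology.Sober
import Mathlib.Data.ENat.Lattice
import Mathlib.Topology.LocallyClosed

/-!
# Codimension and catenary spaces
-/

set_option autoImplicit false
set_option linter.style.haveILetI false

universe u

open Topology TopologicalSpace Set

namespace Groth.Agent.SpecLib

variable {X : Type u} [TopologicalSpace X]

/-- Saturated chains. -/
abbrev SatSeries (α : Type u) [Preorder α] := RelSeries {p : α × α | p.1 ⋖ p.2}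

/-- The strict series underlying a saturated chain. -/
def SatSeries.toLT {α : Type u} [Preorder α] (s : SatSeries α) : LTSeries α :=
  ⟨s.length, s.toFun, fun i => (s.step i : s.toFun i.castSucc ⋖ s.toFun i.succ).lt⟩

theorem le_codim {Y : IrreducibleCloseds X} {T : Set X} (s : LTSeries (IrreducibleCloseds X))
    (h1 : s.head = Y) (h2 : (s.last : Set X) ⊆ T) : (s.length : ℕ∞) ≤ PtTop.codim Y T :=
  le_iSup₂ (f := fun (s : LTSeries (IrreducibleCloseds X)) (_ : s.head = Y ∧ (s.last : Set X) ⊆ T) =>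
    (s.length : ℕ∞)) s ⟨h1, h2⟩

theorem codim_le {Y : IrreducibleCloseds X} {T : Set X} {n : ℕ∞}
    (h : ∀ s : LTSeries (IrreducibleCloseds X), s.head = Y → (s.last : Set X) ⊆ T → (s.length : ℕ∞) ≤ n) :
    PtTop.codim Y T ≤ n :=
  iSup₂_le fun s hs => h s hs.1 hs.2

/-- A maximal chain exists and is saturated. -/
theorem exists_satSeries {Y Y' : IrreducibleCloseds X} (hle : Y ≤ Y') (hfin : PtTop.codim Y (Y' : Set X) ≠ ⊤) :
    ∃ s : SatSeries (IrreducibleCloseds X), s.head = Y ∧ s.last = Y' ∧ (s.length : ℕ∞) = PtTop.codim Y (Y' : Set X) := by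
  haveI : Nonempty {s : LTSeries (IrreducibleCloseds X) // s.head = Y ∧ (s.last : Set X) ⊆ Y'} :=
    ⟨⟨RelSeries.singleton _ Y, rfl, hle⟩⟩
  have e : PtTop.codim Y (Y' : Set X) =
      ⨆ s : {s : LTSeries (IrreducibleCloseds X) // s.head = Y ∧ (s.last : Set X) ⊆ Y'}, (s.1.length : ℕ∞) := iSup_subtype'
  obtain ⟨⟨s, h1, h2⟩, hmax⟩ := ENat.exists_eq_iSup_of_lt_top (e ▸ hfin.lt_top)
  rw [← e] at hmax
  change (s.length : ℕ∞) = _ at hmax
  have hlast : s.last = Y' := by
    by_contra hne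
    have hlt : s.last < Y' := lt_of_le_of_ne h2 hne
    have := le_codim (s.snoc Y' hlt) (by rw [RelSeries.head_snoc, h1]) (T := (Y' : Set X)) (by rw [RelSeries.last_snoc])
    rw [← hmax, RelSeries.snoc_length, ENat.coe_le_coe] at this
    omega
  refine ⟨⟨s.length, s.toFun, fun i => ⟨s.step i, fun z hz hz' => ?_⟩⟩, h1, hlast, hmax⟩
  have hh : (s.insertNth i z hz hz').head = Y := by
    rw [← h1]
    show Fin.insertNth (α := fun _ => IrreducibleCloseds X) i.castSucc.succ z s.toFun (0 : Fin (s.length + 2)) = s.toFun 0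
    rw [← Fin.succAbove_ne_zero_zero (a := i.castSucc.succ) (Fin.succ_ne_zero _), Fin.insertNth_apply_succAbove]
  have hl : (s.insertNth i z hz hz').last = Y' := by
    rw [← hlast]
    show Fin.insertNth (α := fun _ => IrreducibleCloseds X) i.castSucc.succ z s.toFun (Fin.last (s.length + 1)) = s.toFun (Fin.last _)
    rw [← Fin.succAbove_ne_last_last (a := i.castSucc.succ) (Fin.ne_of_lt (by simp [Fin.lt_def])), Fin.insertNth_apply_succAbove]
  have := le_codim (s.insertNth i z hz hz') hh (T := (Y' : Set X)) (by rw [hl])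
  rw [← hmax, RelSeries.insertNth_length, ENat.coe_le_coe] at this
  omega

theorem isCatenarySpace_iff :
    PtTop.IsCatenarySpace X ↔ ∀ T T' : IrreducibleCloseds X, T ≤ T' → PtTop.codim T (T' : Set X) ≠ ⊤ ∧
      ∀ s : SatSeries (IrreducibleCloseds X), s.head = T → s.last = T' →
        (s.length : ℕ∞) = PtTop.codim T (T' : Set X) :=
  ⟨fun h T T' hle => ⟨(h T T' hle).1, fun s a b => (h T T' hle).2 s.toLT a b fun i => s.step i⟩,
    fun h T T' hle => ⟨(h T T' hle).1, fun s a b c => (h T T' hle).2 ⟨s.length, s.toFun, c⟩ a b⟩⟩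

theorem codim_of_covBy {Y Y' : IrreducibleCloseds X} (h : Y ⋖ Y') : PtTop.codim Y (Y' : Set X) = 1 := by
  refine le_antisymm (codim_le fun s hs hs' => ?_) ?_
  · by_contra hlt
    have hlen : 1 < s.length := by
      push Not at hlt
      exact_mod_cast hlt
    have a : s.head < s ⟨1, by omega⟩ := s.strictMono (show (0 : Fin (s.length + 1)) < ⟨1, by omega⟩ from Nat.zero_lt_one)
    have b : s ⟨1, by omega⟩ < s.last := s.strictMono (show (⟨1, by omega⟩ : Fin (s.length + 1)) < Fin.last _ from hlen)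
    exact h.2 (hs ▸ a) (b.trans_le hs')
  · have := le_codim ((RelSeries.singleton _ Y).snoc Y' h.lt : LTSeries (IrreducibleCloseds X)) (Y := Y) (T := (Y' : Set X))
      (by simp [RelSeries.head_snoc]) (by rw [RelSeries.last_snoc])
    simpa using this

/-- An order embedding of irreducible closed subsets with interval-closed range preserves catenarity. -/
theorem catenary_of_embedding {S : Type u} [TopologicalSpace S]
    (e : IrreducibleCloseds S → IrreducibleCloseds X) (he : ∀ a b, e a ≤ e b ↔ a ≤ b)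
    (hr : ∀ a b z, e a ≤ z → z ≤ e b → z ∈ range e) (a b : IrreducibleCloseds S) (hab : a ≤ b) :
    PtTop.codim a (b : Set S) = PtTop.codim (e a) (e b : Set X) ∧
    ∀ s : SatSeries (IrreducibleCloseds S), s.head = a → s.last = b →
      ∃ t : SatSeries (IrreducibleCloseds X), t.head = e a ∧ t.last = e b ∧ t.length = s.length := by
  have hlt : ∀ a b, e a < e b ↔ a < b := fun a b => by simp only [lt_iff_le_not_ge, he]
  refine ⟨le_antisymm (codim_le fun s h1 h2 => ?_) (codim_le fun s h1 h2 => ?_), fun s h1 h2 => ?_⟩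
  · have := le_codim (s.map e fun _ _ h => (hlt _ _).2 h) (Y := e a) (T := (e b : Set X))
      (by rw [LTSeries.head_map, h1]) (by rw [LTSeries.last_map]; exact (he _ _).2 h2)
    simpa using this
  · have hmem : ∀ i, ∃ z, e z = s i := fun i =>
      hr a b (s i) (h1 ▸ s.monotone (Fin.zero_le i)) (le_trans (s.monotone (Fin.le_last i)) h2)
    choose g hg using hmem
    let t : LTSeries (IrreducibleCloseds S) :=
      ⟨s.length, g, fun i => (hlt _ _).1 (by rw [hg, hg]; exact s.step i)⟩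
    refine le_trans (le_of_eq rfl) (le_codim t ?_ ?_)
    · exact le_antisymm ((he _ _).1 (le_of_eq ((hg 0).trans h1))) ((he _ _).1 (le_of_eq ((hg 0).trans h1).symm))
    · exact (he _ _).1 (le_trans (le_of_eq (hg _)) h2)
  · refine ⟨⟨s.length, fun i => e (s i), fun i => ⟨(hlt _ _).2 (s.step i : s i.castSucc ⋖ s i.succ).lt, fun z hz hz' => ?_⟩⟩,
      congrArg e h1, congrArg e h2, rfl⟩
    obtain ⟨w, rfl⟩ := hr _ _ z hz.le hz'.le
    exact (s.step i : s i.castSucc ⋖ s i.succ).2 ((hlt _ _).1 hz) ((hlt _ _).1 hz')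

theorem isCatenarySpace_of_embedding {S : Type u} [TopologicalSpace S] (hX : PtTop.IsCatenarySpace X)
    (e : IrreducibleCloseds S → IrreducibleCloseds X) (he : ∀ a b, e a ≤ e b ↔ a ≤ b)
    (hr : ∀ a b z, e a ≤ z → z ≤ e b → z ∈ range e) : PtTop.IsCatenarySpace S := by
  rw [isCatenarySpace_iff] at hX ⊢
  intro a b hab
  obtain ⟨h1, h2⟩ := hX (e a) (e b) ((he a b).2 hab)
  obtain ⟨hc, hs⟩ := catenary_of_embedding e he hr a b hab
  refine ⟨hc ▸ h1, fun s hh hl => ?_⟩
  obtain ⟨t, ha, hb, hlen⟩ := hs s hh hl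
  rw [hc, ← h2 t ha hb, hlen]

/-- The closure of an irreducible closed subset of a subspace. -/
def clos {S : Set X} (A : IrreducibleCloseds S) : IrreducibleCloseds X :=
  ⟨closure (Subtype.val '' (A : Set S)), (A.2.image _ continuous_subtype_val.continuousOn).closure, isClosed_closure⟩

theorem clos_le_iff {S : Set X} (a b : IrreducibleCloseds S) : clos a ≤ clos b ↔ a ≤ b := by
  refine ⟨fun h => ?_, fun h => closure_mono (image_mono h)⟩
  intro x hx
  have h1 : x.1 ∈ closure (Subtype.val '' (b : Set S)) := h (subset_closure ⟨x, hx, rfl⟩)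
  have h2 : x ∈ closure (b : Set S) := by rw [closure_subtype]; exact h1
  exact b.3.closure_subset h2

theorem mem_range_clos {S U C : Set X} (hU : IsOpen U) (hS : S = U ∩ C) {Z : IrreducibleCloseds X}
    (hZC : (Z : Set X) ⊆ C) (hne : ((Z : Set X) ∩ U).Nonempty) : Z ∈ range (clos (S := S)) := by
  have himg : Subtype.val '' (Subtype.val ⁻¹' (Z : Set X) : Set S) = (Z : Set X) ∩ U := by
    rw [Subtype.image_preimage_coe, hS]
    ext z
    exact ⟨fun h => ⟨h.2, h.1.1⟩, fun h => ⟨⟨h.2, hZC h.1⟩, h.1⟩⟩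
  obtain ⟨z, hz, hz'⟩ := hne
  have hirr : IsIrreducible (Subtype.val ⁻¹' (Z : Set X) : Set S) := by
    refine ⟨⟨⟨z, hS ▸ ⟨hz', hZC hz⟩⟩, hz⟩, fun u v hu hv hu' hv' => ?_⟩
    obtain ⟨u', hu₁, rfl⟩ := isOpen_induced_iff.1 hu
    obtain ⟨v', hv₁, rfl⟩ := isOpen_induced_iff.1 hv
    obtain ⟨a, ha, ha'⟩ := hu'
    obtain ⟨b, hb, hb'⟩ := hv'
    obtain ⟨c, hc, ⟨hc1, hcU⟩, ⟨hc2, -⟩⟩ := Z.2.2 (u' ∩ U) (v' ∩ U) (hu₁.inter hU) (hv₁.inter hU)
      ⟨a, ha, ha', (show a.1 ∈ U ∩ C from hS ▸ a.2).1⟩ ⟨b, hb, hb', (show b.1 ∈ U ∩ C from hS ▸ b.2).1⟩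
    exact ⟨⟨c, hS ▸ ⟨hcU, hZC hc⟩⟩, hc, hc1, hc2⟩
  refine ⟨⟨Subtype.val ⁻¹' (Z : Set X), hirr, Z.3.preimage continuous_subtype_val⟩, ?_⟩
  refine IrreducibleCloseds.ext ?_
  show closure (Subtype.val '' (Subtype.val ⁻¹' (Z : Set X) : Set S)) = Z
  rw [himg]
  exact Subset.antisymm (Z.3.closure_subset_iff.2 inter_subset_left)
    (subset_closure_inter_of_isPreirreducible_of_isOpen Z.2.2 hU ⟨z, hz, hz'⟩)

section sober

variable [QuasiSober X] [T0Space X]

/-- The generic point. -/
noncomputable def gp (Z : IrreducibleCloseds X) : X := Z.2.genericPoint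

omit [T0Space X] in
theorem gp_spec (Z : IrreducibleCloseds X) : IsGenericPoint (gp Z) (Z : Set X) := Z.2.isGenericPoint_genericPoint Z.3

theorem gp_closure (x : X) :
    gp (⟨closure {x}, isIrreducible_singleton.closure, isClosed_closure⟩ : IrreducibleCloseds X) = x :=
  ((gp_spec _).eq (show IsGenericPoint x (closure {x}) from rfl))

variable {δ : X → ℤ} (hδ : PtTop.IsDimensionFunction δ)
include hδ

theorem dim_lt {Z W : IrreducibleCloseds X} (h : Z < W) : δ (gp Z) < δ (gp W) := by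
  refine hδ.1 _ _ ((gp_spec W).specializes (h.le (gp_spec Z).mem)) fun e => h.ne ?_
  exact IrreducibleCloseds.ext ((gp_spec Z).def.symm.trans (e ▸ (gp_spec W).def))

theorem dim_covBy {Z W : IrreducibleCloseds X} (h : Z ⋖ W) : δ (gp W) = δ (gp Z) + 1 := by
  refine hδ.2 _ _ ⟨(gp_spec W).specializes (h.le (gp_spec Z).mem), fun e => h.lt.ne
    (IrreducibleCloseds.ext ((gp_spec Z).def.symm.trans (e ▸ (gp_spec W).def))), fun z h1 h2 => ?_⟩
  let C : IrreducibleCloseds X := ⟨closure {z}, isIrreducible_singleton.closure, isClosed_closure⟩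
  have a : Z ≤ C := (gp_spec Z).def.ge.trans (specializes_iff_closure_subset.1 h2)
  have b : C ≤ W := (specializes_iff_closure_subset.1 h1).trans (gp_spec W).def.le
  rcases eq_or_lt_of_le a with e | a'
  · right; rw [← gp_closure z]; exact congrArg gp e.symm
  rcases eq_or_lt_of_le b with e | b'
  · left; rw [← gp_closure z]; exact congrArg gp e
  exact (h.2 a' b').elim

theorem dim_series (s : LTSeries (IrreducibleCloseds X)) : (s.length : ℤ) ≤ δ (gp s.last) - δ (gp s.head) := by
  suffices ∀ i : Fin (s.length + 1), (i : ℤ) ≤ δ (gp (s i)) - δ (gp s.head) from this (Fin.last _)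
  intro i
  induction i using Fin.induction with
  | zero => simp [RelSeries.head]
  | succ i ih =>
    have h : δ (gp (s i.castSucc)) < δ (gp (s i.succ)) := dim_lt hδ (s.step i)
    simp only [Fin.val_succ, Fin.val_castSucc, Nat.cast_add, Nat.cast_one] at ih ⊢
    omega

theorem dim_sat (s : SatSeries (IrreducibleCloseds X)) : (s.length : ℤ) = δ (gp s.last) - δ (gp s.head) := by
  suffices ∀ i : Fin (s.length + 1), (i : ℤ) = δ (gp (s i)) - δ (gp s.head) from this (Fin.last _)
  intro i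
  induction i using Fin.induction with
  | zero => simp [RelSeries.head]
  | succ i ih =>
    have h : δ (gp (s i.succ)) = δ (gp (s i.castSucc)) + 1 := dim_covBy hδ (s.step i)
    simp only [Fin.val_succ, Fin.val_castSucc, Nat.cast_add, Nat.cast_one] at ih ⊢
    omega

theorem codim_ne_top (T T' : IrreducibleCloseds X) : PtTop.codim T (T' : Set X) ≠ ⊤ := by
  refine ne_top_of_le_ne_top (ENat.coe_ne_top (δ (gp T') - δ (gp T)).toNat) (codim_le fun s h1 h2 => ?_)
  have h := dim_series hδ s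
  rw [h1] at h
  have h' : δ (gp s.last) ≤ δ (gp T') := by
    rcases eq_or_lt_of_le (show s.last ≤ T' from h2) with e | e
    · rw [e]
    · exact (dim_lt hδ e).le
  rw [ENat.coe_le_coe]
  omega

theorem codim_eq_toNat {T T' : IrreducibleCloseds X} (h : T ≤ T') :
    PtTop.codim T (T' : Set X) = ((δ (gp T') - δ (gp T)).toNat : ℕ∞) := by
  obtain ⟨s, h1, h2, h3⟩ := exists_satSeries h (codim_ne_top hδ T T')
  have := dim_sat hδ s
  rw [h1, h2] at this
  rw [← h3]
  congr 1
  omega

theorem diff_eq {δ' : X → ℤ} (hδ' : PtTop.IsDimensionFunction δ') {x y : X} (h : x ⤳ y) :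
    δ x - δ' x = δ y - δ' y := by
  let Cx : IrreducibleCloseds X := ⟨closure {x}, isIrreducible_singleton.closure, isClosed_closure⟩
  let Cy : IrreducibleCloseds X := ⟨closure {y}, isIrreducible_singleton.closure, isClosed_closure⟩
  obtain ⟨s, h1, h2, -⟩ := exists_satSeries (specializes_iff_closure_subset.1 h : Cy ≤ Cx) (codim_ne_top hδ Cy Cx)
  have a := dim_sat hδ s
  have b := dim_sat hδ' s
  rw [h1, h2, gp_closure, gp_closure] at a b
  omega

end sober

end Groth.Agent.SpecLib
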