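import Groth.Agent.SpecLib.Basic
import Mathlib.Topology.Order
import Mathlib.Topology.Compactness.Compact
import Mathlib.Topology.QuasiSeparated

/-!
# Powers of the Sierpiński space are spectral
-/

set_option autoImplicit false
set_option linter.style.haveILetI false

universe u

open Topology TopologicalSpace Set

namespace Groth.Agent.SpecLib

theorem prop_open_eq_univ {V : Set Prop} (hV : IsOpen V) (h : False ∈ V) : V = univ := by
  induction hV with
  | basic s hs =>
    rw [mem_singleton_iff.1 hs, mem_singleton_iff] at h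
    exact (false_ne_true h).elim
  | univ => rfl
  | inter s t _ _ hs ht => rw [hs h.1, ht h.2, inter_univ]
  | sUnion S _ hS =>
    obtain ⟨s, hs, hs'⟩ := h
    exact eq_univ_of_univ_subset ((hS s hs hs').ge.trans (subset_sUnion_of_mem hs))

variable {I : Type u}

/-- Basic open cylinders. -/
def cyl (s : Finset I) : Set (I → Prop) := {g | ∀ i ∈ s, g i}

theorem isOpen_cyl (s : Finset I) : IsOpen (cyl s) := by
  have e : cyl s = ⋂ i ∈ s, (fun g : I → Prop => g i) ⁻¹' {True} := by
    ext g; simp [cyl]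
  rw [e]
  exact isOpen_biInter_finset fun i _ => isOpen_singleton_true.preimage (continuous_apply i)

theorem isCompact_cyl (s : Finset I) : IsCompact (cyl s) := by
  classical
  have e : cyl s = Set.pi univ (fun i => if i ∈ s then {True} else (univ : Set Prop)) := by
    ext g
    simp only [cyl, Set.mem_setOf_eq, mem_univ_pi]
    refine ⟨fun h i => ?_, fun h i hi => ?_⟩
    · split
      · next hi => exact eq_true (h i hi)
      · trivial
    · have h' := h i
      rw [if_pos hi, mem_singleton_iff] at h'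
      exact h' ▸ trivial
  rw [e]
  exact isCompact_univ_pi fun i => (Set.toFinite _).isCompact

theorem isBasis_cyl : IsTopologicalBasis (range (cyl : Finset I → Set (I → Prop))) := by
  classical
  refine isTopologicalBasis_of_isOpen_of_nhds (by rintro _ ⟨s, rfl⟩; exact isOpen_cyl s) fun g V hg hV => ?_
  obtain ⟨F, U, hU, hFV⟩ := isOpen_pi_iff.1 hV g hg
  refine ⟨cyl (F.filter fun i => g i), ⟨_, rfl⟩, fun i hi => (Finset.mem_filter.1 hi).2, fun h hh => hFV fun i hi => ?_⟩
  by_cases hgi : g i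
  · have : h i = g i := propext ⟨fun _ => hgi, fun _ => hh i (Finset.mem_filter.2 ⟨hi, hgi⟩)⟩
    rw [this]
    exact (hU i hi).2
  · rw [prop_open_eq_univ (hU i hi).1 (eq_false hgi ▸ (hU i hi).2)]
    trivial

theorem spectralSpace_pi_prop : SpectralSpace (I → Prop) := by
  classical
  haveI : CompactSpace (I → Prop) := ⟨by simpa [cyl] using isCompact_cyl (∅ : Finset I)⟩
  haveI : PrespectralSpace (I → Prop) := PrespectralSpace.of_isTopologicalBasis isBasis_cyl
    (by rintro _ ⟨s, rfl⟩; exact isCompact_cyl s)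
  haveI : QuasiSeparatedSpace (I → Prop) := by
    refine ⟨fun U V hU hU' hV hV' => ?_⟩
    obtain ⟨S, hS, rfl⟩ := (isCompact_open_iff_eq_finite_iUnion_of_isTopologicalBasis _ isBasis_cyl isCompact_cyl U).1 ⟨hU', hU⟩
    obtain ⟨T, hT, rfl⟩ := (isCompact_open_iff_eq_finite_iUnion_of_isTopologicalBasis _ isBasis_cyl isCompact_cyl V).1 ⟨hV', hV⟩
    have e : (⋃ i ∈ S, cyl i) ∩ (⋃ j ∈ T, cyl j) = ⋃ i ∈ S, ⋃ j ∈ T, cyl (i ∪ j) := by
      ext g
      simp only [mem_inter_iff, mem_iUnion, exists_prop, cyl, Set.mem_setOf_eq, Finset.mem_union]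
      exact ⟨fun ⟨⟨i, hi, a⟩, j, hj, b⟩ => ⟨i, hi, j, hj, fun k hk => hk.elim (a k) (b k)⟩,
        fun ⟨i, hi, j, hj, a⟩ => ⟨⟨i, hi, fun k hk => a k (.inl hk)⟩, j, hj, fun k hk => a k (.inr hk)⟩⟩
    rw [e]
    exact hS.isCompact_biUnion fun i _ => hT.isCompact_biUnion fun j _ => isCompact_cyl _
  haveI : QuasiSober (I → Prop) := ⟨fun {Z} hZ hZc => by
    refine ⟨fun i => ∃ z ∈ Z, z i, ?_⟩
    have key : ∀ s : Finset I, (∀ i ∈ s, ∃ z ∈ Z, z i) → (Z ∩ cyl s).Nonempty := by
      intro s
      induction s using Finset.induction_on with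
      | empty => exact fun _ => hZ.1.imp fun z hz => ⟨hz, fun i hi => absurd hi (Finset.notMem_empty i)⟩
      | insert a s _ ih =>
        intro h
        obtain ⟨z, hz, hza⟩ := h a (Finset.mem_insert_self _ _)
        obtain ⟨w, hw, hw1, hw2⟩ := hZ.2 (cyl s) (cyl {a}) (isOpen_cyl _) (isOpen_cyl _)
          (ih fun i hi => h i (Finset.mem_insert_of_mem hi)) ⟨z, hz, fun i hi => Finset.mem_singleton.1 hi ▸ hza⟩
        exact ⟨w, hw, fun i hi => (Finset.mem_insert.1 hi).elim (fun e => hw2 i (Finset.mem_singleton.2 e)) (hw1 i)⟩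
    have hx : (fun i => ∃ z ∈ Z, z i) ∈ Z := by
      suffices h : (fun i => ∃ z ∈ Z, z i) ∈ closure Z by rwa [hZc.closure_eq] at h
      rw [isBasis_cyl.mem_closure_iff]
      rintro _ ⟨s, rfl⟩ hs
      rw [inter_comm]
      exact key s hs
    refine Subset.antisymm (hZc.closure_subset_iff.2 (singleton_subset_iff.2 hx)) fun z hz => ?_
    rw [isBasis_cyl.mem_closure_iff]
    rintro _ ⟨s, rfl⟩ hs
    exact ⟨_, fun i hi => ⟨z, hz, hs i hi⟩, rfl⟩⟩
  haveI : T0Space Prop := (t0Space_iff_inseparable Prop).2 fun p q h => propext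
    ⟨fun hp => of_eq_true ((h.mem_open_iff isOpen_singleton_true).1 (eq_true hp)),
      fun hq => of_eq_true ((h.mem_open_iff isOpen_singleton_true).2 (eq_true hq))⟩
  haveI : T0Space (I → Prop) := inferInstance
  exact {}

end Groth.Agent.SpecLib
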