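import Groth.Agent.SpecLib.Constr
import Mathlib.Data.Fintype.Powerset

/-!
# Stratifications and decompositions
-/

set_option autoImplicit false
set_option linter.style.haveILetI false

universe u

open Topology TopologicalSpace Set

namespace Groth.Agent.SpecLib

variable {X : Type u} [TopologicalSpace X]

/-- The membership pattern of a point with respect to a finite family of sets. -/
noncomputable def pattern {m : ℕ} (O : Fin m → Set X) (x : X) : Finset (Fin m) :=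
  haveI := Classical.dec
  Finset.univ.filter fun i => x ∈ O i

theorem mem_pattern {m : ℕ} (O : Fin m → Set X) {x : X} {i : Fin m} : i ∈ pattern O x ↔ x ∈ O i := by
  simp [pattern]

theorem isLocallyClosed_pattern {m : ℕ} (O : Fin m → Set X) (hO : ∀ i, IsOpen (O i)) (a : Finset (Fin m)) :
    IsLocallyClosed (pattern O ⁻¹' {a}) := by
  classical
  refine ⟨⋂ i ∈ a, O i, ⋂ i ∈ aᶜ, (O i)ᶜ, isOpen_biInter_finset fun i _ => hO i,
    isClosed_biInter fun i _ => (hO i).isClosed_compl, ?_⟩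
  ext x
  simp only [mem_preimage, mem_singleton_iff, Finset.ext_iff, mem_pattern, mem_inter_iff, mem_iInter,
    mem_compl_iff, Finset.mem_compl]
  exact ⟨fun h => ⟨fun i hi => (h i).2 hi, fun i hi hx => hi ((h i).1 hx)⟩,
    fun h i => ⟨fun hx => by_contra fun hi => h.2 i hi hx, h.1 i⟩⟩

theorem closure_pattern_subset {m : ℕ} (O : Fin m → Set X) (hO : ∀ i, IsOpen (O i)) (a : Finset (Fin m)) :
    closure (pattern O ⁻¹' {a}) ⊆ ⋃ b ∈ Iic a, pattern O ⁻¹' {b} := fun x hx =>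
  mem_biUnion (x := pattern O x) (fun i hi => by
    rw [mem_pattern] at hi
    obtain ⟨y, hy, hy'⟩ := mem_closure_iff.1 hx _ (hO i) hi
    rw [← (hy' : pattern O y = a), mem_pattern]
    exact hy) rfl

/-- Every nonempty trace of an open set on a closed subset of a Noetherian space contains a nonempty
open piece of an irreducible closed subset. -/
theorem exists_irred_open [NoetherianSpace X] {Y : Set X} (hY : IsClosed Y) :
    ∀ W : Set X, IsOpen W → (W ∩ Y).Nonempty → ∃ Z V : Set X, IsClosed Z ∧ IsIrreducible Z ∧ Z ⊆ Y ∧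
      IsOpen V ∧ V ⊆ W ∧ (V ∩ Y).Nonempty ∧ V ∩ Y ⊆ Z := by
  refine irred_induction (P := fun Y => ∀ W : Set X, IsOpen W → (W ∩ Y).Nonempty → ∃ Z V : Set X,
    IsClosed Z ∧ IsIrreducible Z ∧ Z ⊆ Y ∧ IsOpen V ∧ V ⊆ W ∧ (V ∩ Y).Nonempty ∧ V ∩ Y ⊆ Z) ?_ ?_ ?_ hY
  · rintro W - ⟨x, -, hx⟩
    exact hx.elim
  · intro A B hA hB ihA ihB W hW hne
    by_cases h : (W \ B ∩ A).Nonempty
    · obtain ⟨Z, V, hZ, hZ', hZA, hV, hVW, ⟨z, hz⟩, hsub⟩ := ihA (W \ B) (hW.sdiff hB) h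
      exact ⟨Z, V, hZ, hZ', hZA.trans subset_union_left, hV, hVW.trans sdiff_subset, ⟨z, hz.1, .inl hz.2⟩,
        fun w hw => hsub ⟨hw.1, hw.2.resolve_right (hVW hw.1).2⟩⟩
    · have hWY : W ∩ (A ∪ B) ⊆ B := fun w hw => hw.2.elim (fun ha => by_contra fun hb => h ⟨w, ⟨hw.1, hb⟩, ha⟩) _root_.id
      obtain ⟨Z, V, hZ, hZ', hZB, hV, hVW, ⟨z, hz⟩, hsub⟩ :=
        ihB W hW (hne.imp fun w hw => ⟨hw.1, hWY hw⟩)
      exact ⟨Z, V, hZ, hZ', hZB.trans subset_union_right, hV, hVW, ⟨z, hz.1, .inr hz.2⟩,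
        fun w hw => hsub ⟨hw.1, hWY ⟨hVW hw.1, hw.2⟩⟩⟩
  · exact fun Y hY hirr _ W hW hne => ⟨Y, W, hY, hirr, subset_rfl, hW, subset_rfl, hne, inter_subset_right⟩

/-- Good stratifications of a closed subset, compatible with given closed sets. -/
theorem exists_good [NoetherianSpace X] {Y : Set X} (hY : IsClosed Y) :
    ∀ ℱ : Set (Set X), ℱ.Finite → (∀ F ∈ ℱ, IsClosed F) → ∃ (m : ℕ) (S : Fin m → Set X),
      (∀ i, IsLocallyClosed (S i)) ∧ (⋃ i, S i = Y) ∧ (∀ i j, i ≠ j → Disjoint (S i) (S j)) ∧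
      (∀ i j, (S i ∩ closure (S j)).Nonempty → S i ⊆ closure (S j)) ∧
      (∀ i, ∀ F ∈ ℱ, (S i ∩ F).Nonempty → S i ⊆ F) := by
  refine closed_induction (P := fun Y => ∀ ℱ : Set (Set X), ℱ.Finite → (∀ F ∈ ℱ, IsClosed F) → ∃ (m : ℕ) (S : Fin m → Set X),
      (∀ i, IsLocallyClosed (S i)) ∧ (⋃ i, S i = Y) ∧ (∀ i j, i ≠ j → Disjoint (S i) (S j)) ∧
      (∀ i j, (S i ∩ closure (S j)).Nonempty → S i ⊆ closure (S j)) ∧
      (∀ i, ∀ F ∈ ℱ, (S i ∩ F).Nonempty → S i ⊆ F)) (fun Y hY ih => ?_) hY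
  intro ℱ hfin hcl
  rcases Y.eq_empty_or_nonempty with rfl | hne
  · exact ⟨0, Fin.elim0, fun i => i.elim0, by simp, fun i => i.elim0, fun i => i.elim0, fun i => i.elim0⟩
  obtain ⟨Z, V, hZ, hZirr, hZY, hV, -, hVY, hVZ⟩ := exists_irred_open hY univ isOpen_univ (by simpa using hne)
  let bad : Set X := ⋃ F ∈ {F ∈ ℱ | ¬ Z ⊆ F}, F
  have hbad : IsClosed bad := (hfin.subset fun F hF => hF.1).isClosed_biUnion fun F hF => hcl F hF.1
  let U : Set X := Y ∩ (V \ bad)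
  have hUZ : U ⊆ Z := fun z hz => hVZ ⟨hz.2.1, hz.1⟩
  have hUne : U.Nonempty := by
    by_contra h
    have hVZne : (V ∩ Z).Nonempty := hVY.imp fun z hz => ⟨hz.1, hVZ hz⟩
    have hsub : V ∩ Z ⊆ bad := fun z hz => by_contra fun hb => h ⟨z, hZY hz.2, hz.1, hb⟩
    obtain ⟨t, ht, htZ⟩ := isIrreducible_iff_sUnion_isClosed.1 hZirr ((hfin.subset fun F (hF : F ∈ {F ∈ ℱ | ¬ Z ⊆ F}) => hF.1).toFinset)
      (fun F hF => hcl F ((Set.Finite.mem_toFinset _).1 hF).1) (by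
        intro z hz
        have h1 := (subset_closure_inter_of_isPreirreducible_of_isOpen hZirr.2 hV (inter_comm V Z ▸ hVZne)) hz
        have h2 : z ∈ bad := closure_minimal (fun w hw => hsub ⟨hw.2, hw.1⟩) hbad h1
        obtain ⟨F, hF, hzF⟩ := mem_iUnion₂.1 h2
        exact ⟨F, (Set.Finite.mem_toFinset _).2 hF, hzF⟩)
    exact ((Set.Finite.mem_toFinset _).1 ht).2 htZ
  have hUlc : IsLocallyClosed U := ⟨V \ bad, Y, hV.sdiff hbad, hY, inter_comm _ _⟩
  have hclU : closure U = Z := by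
    refine Subset.antisymm (hZ.closure_subset_iff.2 hUZ) ?_
    refine (subset_closure_inter_of_isPreirreducible_of_isOpen hZirr.2 (hV.sdiff hbad) ?_).trans
      (closure_mono fun z hz => ⟨hZY hz.1, hz.2⟩)
    exact hUne.imp fun z hz => ⟨hUZ hz, hz.2⟩
  obtain ⟨m, S, h1, h2, h3, h4, h5⟩ := ih (Y \ (V \ bad)) (hY.sdiff (hV.sdiff hbad))
    (sdiff_subset.ssubset_of_ne fun e => by
      obtain ⟨z, hz, hz'⟩ := hUne
      exact (e.symm ▸ hz : z ∈ Y \ (V \ bad)).2 hz')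
    (insert Z ℱ) (hfin.insert Z) (fun F hF => hF.elim (fun e => e ▸ hZ) (hcl F))
  have hsubS : ∀ i, S i ⊆ Y \ (V \ bad) := fun i => h2 ▸ subset_iUnion S i
  refine ⟨m + 1, Fin.cons U S, Fin.forall_fin_succ.2 ⟨by simpa using hUlc, by simpa using h1⟩, ?_, ?_, ?_, ?_⟩
  · ext z
    simp only [mem_iUnion, Fin.exists_fin_succ, Fin.cons_zero, Fin.cons_succ]
    rw [← mem_iUnion, h2]
    exact ⟨fun h => h.elim (·.1) (·.1), fun h => (em (z ∈ V \ bad)).elim (fun a => .inl ⟨h, a⟩) (fun a => .inr ⟨h, a⟩)⟩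
  · have hd : ∀ i, Disjoint U (S i) := fun i => Set.disjoint_left.2 fun z hz hz' => (hsubS i hz').2 hz.2
    refine Fin.forall_fin_succ.2 ⟨Fin.forall_fin_succ.2 ⟨fun h => absurd rfl h, fun j _ => by simpa using hd j⟩,
      fun i => Fin.forall_fin_succ.2 ⟨fun _ => by simpa using (hd i).symm, fun j h => ?_⟩⟩
    simpa using h3 i j fun e => h (congrArg Fin.succ e)
  · refine Fin.forall_fin_succ.2 ⟨Fin.forall_fin_succ.2 ⟨fun _ => by simpa using subset_closure, fun j h => ?_⟩,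
      fun i => Fin.forall_fin_succ.2 ⟨fun h => ?_, fun j h => ?_⟩⟩
    · simp only [Fin.cons_zero, Fin.cons_succ] at h
      obtain ⟨z, hz, hz'⟩ := h
      exact absurd hz.2 (closure_minimal (hsubS j) (hY.sdiff (hV.sdiff hbad)) hz').2
    · simp only [Fin.cons_zero, Fin.cons_succ, hclU] at h ⊢
      exact h5 i Z (mem_insert _ _) h
    · simp only [Fin.cons_succ] at h ⊢
      exact h4 i j h
  · refine Fin.forall_fin_succ.2 ⟨fun F hF h => ?_, fun i F hF h => ?_⟩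
    · simp only [Fin.cons_zero] at h ⊢
      refine hUZ.trans (by_contra fun hZF => ?_)
      obtain ⟨z, hz, hzF⟩ := h
      exact hz.2.2 (mem_iUnion₂.2 ⟨F, ⟨hF, hZF⟩, hzF⟩)
    · simp only [Fin.cons_succ] at h ⊢
      exact h5 i F (mem_insert_of_mem _ hF) h

end Groth.Agent.SpecLib
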