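import Groth.Prelude.Def_W4stktopologysheavesDim
import Mathlib.Topology.Sober
import Mathlib.Topology.NoetherianSpace
import Mathlib.Topology.Spectral.Basic

/-!
# Soberification
-/

set_option autoImplicit false
set_option linter.style.haveILetI false

universe u v

open Topology TopologicalSpace Set

namespace Groth.Agent.SpecLib

variable {X : Type u} [TopologicalSpace X]

/-- A point of the soberification as an irreducible closed subset. -/
abbrev toIC (Z : PtTop.Sob X) : IrreducibleCloseds X := Z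

/-- The irreducible closed subsets meeting a set. -/
def meets (U : Set X) : Set (PtTop.Sob X) := {Z | ((toIC Z : Set X) ∩ U).Nonempty}

theorem meets_inter {U V : Set X} (hU : IsOpen U) (hV : IsOpen V) : meets (U ∩ V) = meets U ∩ meets V := by
  ext Z
  exact ⟨fun ⟨x, hx, hx'⟩ => ⟨⟨x, hx, hx'.1⟩, ⟨x, hx, hx'.2⟩⟩,
    fun ⟨h, h'⟩ => (toIC Z).2.2 U V hU hV h h'⟩

theorem meets_mono {U V : Set X} (h : U ⊆ V) : meets U ⊆ meets V :=
  fun _ hZ => hZ.mono (inter_subset_inter_right _ h)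

theorem meets_iUnion {ι : Sort*} (U : ι → Set X) : meets (⋃ i, U i) = ⋃ i, meets (U i) := by
  ext Z
  simp only [meets, inter_iUnion, nonempty_iUnion, Set.mem_setOf_eq, mem_iUnion]

theorem isOpen_meets {U : Set X} (hU : IsOpen U) : IsOpen (meets U) :=
  TopologicalSpace.isOpen_generateFrom_of_mem ⟨⟨U, hU⟩, rfl⟩

theorem exists_meets {S : Set (PtTop.Sob X)} (hS : IsOpen S) : ∃ U : Set X, IsOpen U ∧ S = meets U := by
  induction hS with
  | basic s hs =>
    obtain ⟨U, rfl⟩ := hs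
    exact ⟨U, U.2, rfl⟩
  | univ =>
    refine ⟨univ, isOpen_univ, (eq_univ_of_forall fun Z => ?_).symm⟩
    exact (toIC Z).2.1.mono (subset_inter subset_rfl (subset_univ _))
  | inter s t _ _ hs ht =>
    obtain ⟨U, hU, rfl⟩ := hs
    obtain ⟨V, hV, rfl⟩ := ht
    exact ⟨U ∩ V, hU.inter hV, (meets_inter hU hV).symm⟩
  | sUnion S _ hS =>
    choose U hU e using hS
    refine ⟨⋃ s, ⋃ hs : s ∈ S, U s hs, isOpen_iUnion fun s => isOpen_iUnion fun hs => hU s hs, ?_⟩
    rw [sUnion_eq_iUnion]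
    simp only [meets_iUnion, iUnion_coe_set]
    exact iUnion_congr fun s => iUnion_congr fun hs => e s hs

theorem toSob_preimage {U : Set X} (hU : IsOpen U) : PtTop.toSob X ⁻¹' meets U = U := by
  ext x
  exact ⟨fun ⟨y, hy, hy'⟩ => (specializes_iff_mem_closure.2 hy).mem_open hU hy',
    fun hx => ⟨x, subset_closure rfl, hx⟩⟩

theorem continuous_toSob : Continuous (PtTop.toSob X) :=
  ⟨fun S hS => by obtain ⟨U, hU, rfl⟩ := exists_meets hS; rwa [toSob_preimage hU]⟩

theorem specializes_iff_le (Z W : PtTop.Sob X) :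
    Z ⤳ W ↔ (toIC W : Set X) ⊆ (toIC Z : Set X) := by
  refine ⟨fun h x hx => ?_, fun h => ?_⟩
  · by_contra hx'
    obtain ⟨y, hy, hy'⟩ := h.mem_open (isOpen_meets (toIC Z).3.isOpen_compl) ⟨x, hx, hx'⟩
    exact hy' hy
  · rw [specializes_iff_forall_open]
    intro S hS hW
    obtain ⟨U, -, rfl⟩ := exists_meets hS
    exact hW.mono (inter_subset_inter_left _ h)

theorem t0Space_sob : T0Space (PtTop.Sob X) :=
  (t0Space_iff_inseparable _).2 fun Z W h => IrreducibleCloseds.ext
    (Subset.antisymm ((specializes_iff_le W Z).1 h.symm.specializes) ((specializes_iff_le Z W).1 h.specializes))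

theorem quasiSober_sob : QuasiSober (PtTop.Sob X) := by
  refine ⟨fun {S} hS hSc => ?_⟩
  obtain ⟨U, hU, e⟩ := exists_meets hSc.isOpen_compl
  have mem_iff : ∀ Z : PtTop.Sob X, Z ∈ S ↔ (toIC Z : Set X) ⊆ Uᶜ := by
    intro Z
    rw [← not_not (a := Z ∈ S), ← mem_compl_iff, e]
    simp [meets, Set.subset_def, not_nonempty_iff_eq_empty, Set.eq_empty_iff_forall_notMem]
  have hpt : ∀ x ∈ Uᶜ, PtTop.toSob X x ∈ S := fun x hx =>
    (mem_iff _).2 (hU.isClosed_compl.closure_subset_iff.2 (singleton_subset_iff.2 hx))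
  have hirr : IsIrreducible Uᶜ := by
    obtain ⟨Z, hZ⟩ := hS.1
    refine ⟨(toIC Z).2.1.mono ((mem_iff Z).1 hZ), fun V V' hV hV' ⟨x, hx, hx'⟩ ⟨y, hy, hy'⟩ => ?_⟩
    obtain ⟨W, hW, hWV⟩ := hS.2 (meets V) (meets V') (isOpen_meets hV) (isOpen_meets hV')
      ⟨_, hpt x hx, x, subset_closure rfl, hx'⟩ ⟨_, hpt y hy, y, subset_closure rfl, hy'⟩
    rw [← meets_inter hV hV'] at hWV
    obtain ⟨z, hz, hz'⟩ := hWV
    exact ⟨z, (mem_iff W).1 hW hz, hz'⟩
  refine ⟨(⟨Uᶜ, hirr, hU.isClosed_compl⟩ : IrreducibleCloseds X), ?_⟩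
  refine Subset.antisymm (hSc.closure_subset_iff.2 (singleton_subset_iff.2 ((mem_iff _).2 subset_rfl))) fun Z hZ => ?_
  rw [← specializes_iff_mem_closure, specializes_iff_le]
  exact (mem_iff Z).1 hZ

theorem isCompact_meets {U : Set X} (hU : IsOpen U) (hUc : IsCompact U) : IsCompact (meets U) := by
  rw [isCompact_iff_finite_subcover]
  intro ι O hO hcov
  choose V hV e using fun i => exists_meets (hO i)
  obtain ⟨t, ht⟩ := hUc.elim_finite_subcover V hV fun x hx => by
    obtain ⟨i, hi⟩ := mem_iUnion.1 (hcov (show PtTop.toSob X x ∈ meets U from ⟨x, subset_closure rfl, hx⟩))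
    refine mem_iUnion.2 ⟨i, ?_⟩
    rw [← toSob_preimage (hV i), ← e i]
    exact hi
  refine ⟨t, ?_⟩
  intro Z hZ
  have := meets_mono ht hZ
  simp only [meets_iUnion] at this
  simpa only [e] using this

theorem isCompact_of_meets {U : Set X} (hU : IsOpen U) (hUc : IsCompact (meets U)) : IsCompact U := by
  rw [isCompact_iff_finite_subcover]
  intro ι O hO hcov
  obtain ⟨t, ht⟩ := hUc.elim_finite_subcover (fun i => meets (O i)) (fun i => isOpen_meets (hO i))
    (by rw [← meets_iUnion]; exact meets_mono hcov)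
  refine ⟨t, fun x hx => ?_⟩
  have h := ht (show PtTop.toSob X x ∈ meets U from ⟨x, subset_closure rfl, hx⟩)
  obtain ⟨i, hi, hxi⟩ := mem_iUnion₂.1 h
  refine mem_iUnion₂.2 ⟨i, hi, ?_⟩
  rw [← toSob_preimage (hO i)]
  exact hxi

theorem compactSpace_sob (h : CompactSpace X) : CompactSpace (PtTop.Sob X) := by
  refine ⟨?_⟩
  have : (univ : Set (PtTop.Sob X)) = meets univ :=
    (eq_univ_of_forall fun Z => (toIC Z).2.1.mono (subset_inter subset_rfl (subset_univ _))).symm
  rw [this]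
  exact isCompact_meets isOpen_univ isCompact_univ

theorem spectralSpace_sob (h : CompactSpace X) (hp : PrespectralSpace X) (hq : QuasiSeparatedSpace X) :
    SpectralSpace (PtTop.Sob X) := by
  haveI := compactSpace_sob h
  haveI := t0Space_sob (X := X)
  haveI := quasiSober_sob (X := X)
  haveI : PrespectralSpace (PtTop.Sob X) := by
    refine ⟨isTopologicalBasis_of_isOpen_of_nhds (fun _ h => h.1) fun Z S hZ hS => ?_⟩
    obtain ⟨U, hU, rfl⟩ := exists_meets hS
    obtain ⟨x, hx, hxU⟩ := hZ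
    obtain ⟨V, ⟨hV, hV'⟩, hxV, hVU⟩ := PrespectralSpace.isTopologicalBasis.exists_subset_of_mem_open hxU hU
    exact ⟨meets V, ⟨isOpen_meets hV, isCompact_meets hV hV'⟩, ⟨x, hx, hxV⟩, meets_mono hVU⟩
  haveI : QuasiSeparatedSpace (PtTop.Sob X) := ⟨fun S T hS hS' hT hT' => by
    obtain ⟨U, hU, rfl⟩ := exists_meets hS
    obtain ⟨V, hV, rfl⟩ := exists_meets hT
    rw [← meets_inter hU hV]
    exact isCompact_meets (hU.inter hV)
      (QuasiSeparatedSpace.inter_isCompact _ _ hU (isCompact_of_meets hU hS') hV (isCompact_of_meets hV hT'))⟩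
  exact {}

theorem noetherian_sob (h : NoetherianSpace X) : NoetherianSpace (PtTop.Sob X) := by
  refine (noetherianSpace_iff_opens _).2 fun S => ?_
  obtain ⟨U, hU, e⟩ := exists_meets S.2
  show IsCompact (S : Set (PtTop.Sob X))
  rw [show (S : Set (PtTop.Sob X)) = meets U from e]
  exact isCompact_meets hU (NoetherianSpace.isCompact U)

end Groth.Agent.SpecLib
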